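import Groth.Prelude.Def_ArtFun6
import Groth.Agent.ArtGlobal29.Basic
import Groth.Agent.InfAut29.Auto
import Groth.Agent.FSchLib.IdealSheaf
import Mathlib

/-!
# Affine charts of a product with the spectrum of an Artinian algebra
-/

set_option autoImplicit false
set_option backward.isDefEq.respectTransparency.types false
set_option backward.isDefEq.respectTransparency false
set_option linter.style.haveILetI false
universe u

open CategoryTheory CategoryTheory.Limits AlgebraicGeometry TopologicalSpace Opposite ArtFun ArtFun.Art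
open Groth.Agent.ArtGlobal29

noncomputable section

namespace Groth.Agent.HilbT29

variable {k : Type u} [Field k] {X : Scheme.{u}} (x : X ⟶ specPt k) (A : Art k k)

/-- The first projection. -/
abbrev pr : XA x A ⟶ X := pullback.fst x (specOver A)

instance isAffineHom_pr : IsAffineHom (pr x A) :=
  MorphismProperty.pullback_fst _ _ (isAffineHom_of_isAffine (specOver A))

/-- The preimage of an affine open. -/
def pU (U : X.affineOpens) : (XA x A).affineOpens :=
  ⟨pr x A ⁻¹ᵁ U.1, U.2.preimage (pr x A)⟩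

theorem pU_mono {U V : X.affineOpens} (h : U.1 ≤ V.1) : (pU x A U).1 ≤ (pU x A V).1 :=
  (pr x A).preimage_mono h

/-- Functions of the base. -/
def jm (U : X.affineOpens) : Γ(X, U.1) →+* Γ(XA x A, (pU x A U).1) := ((pr x A).app U.1).hom

/-- Constants. -/
def am (U : X.affineOpens) : A →+* Γ(XA x A, (pU x A U).1) := strMap (XApr x A) (pU x A U).1

theorem res_jm {U V : X.affineOpens} (h : U.1 ≤ V.1) (a : Γ(X, V.1)) :
    (XA x A).presheaf.map (homOfLE (pU_mono x A h)).op (jm x A V a) =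
      jm x A U (X.presheaf.map (homOfLE h).op a) :=
  (congr($((pr x A).naturality (homOfLE h).op) a)).symm

theorem res_am {U V : X.affineOpens} (h : U.1 ≤ V.1) (c : A) :
    (XA x A).presheaf.map (homOfLE (pU_mono x A h)).op (am x A V c) = am x A U c :=
  res_strMap _ _ c

theorem incl_preimage (U : X.affineOpens) : XAincl x A ⁻¹ᵁ (pU x A U).1 = U.1 := by
  show (XAincl x A ≫ pr x A) ⁻¹ᵁ U.1 = _
  rw [XAincl_fst]
  rfl

/-- Reduction. -/
def incl (U : X.affineOpens) : Γ(XA x A, (pU x A U).1) →+* Γ(X, U.1) :=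
  ((XAincl x A).appLE (pU x A U).1 U.1 (incl_preimage x A U).ge).hom

theorem incl_jm (U : X.affineOpens) (a : Γ(X, U.1)) : incl x A U (jm x A U a) = a := by
  show ((pr x A).app U.1 ≫ (XAincl x A).appLE (pU x A U).1 U.1 _) a = a
  rw [Scheme.Hom.app_eq_appLE]
  show ((pr x A).appLE U.1 (pU x A U).1 le_rfl ≫ (XAincl x A).appLE (pU x A U).1 U.1 _) a = a
  rw [Scheme.Hom.appLE_comp_appLE]
  simp only [XAincl_fst]
  simp [Scheme.Hom.appLE]
  exact congr($(X.presheaf.map_id (op U.1)) a)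

theorem incl_am (U : X.affineOpens) (c : A) : incl x A U (am x A U c) = strMap x U.1 (A.res c) := by
  show ((Scheme.ΓSpecIso (CommRingCat.of A)).inv ≫ (XApr x A).appLE ⊤ _ _ ≫
    (XAincl x A).appLE (pU x A U).1 U.1 _) c = _
  rw [Scheme.Hom.appLE_comp_appLE]
  simp only [XAincl_snd, Scheme.Hom.comp_appLE]
  show ((Scheme.ΓSpecIso (CommRingCat.of A)).inv ≫ (Spec.map (CommRingCat.ofHom A.res.toRingHom)).app ⊤ ≫ x.appLE ⊤ U.1 _) c = _
  rw [← Category.assoc, show (Scheme.ΓSpecIso (CommRingCat.of A)).inv ≫ (Spec.map (CommRingCat.ofHom A.res.toRingHom)).app ⊤ =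
    CommRingCat.ofHom A.res.toRingHom ≫ (Scheme.ΓSpecIso (CommRingCat.of k)).inv from
      (Scheme.ΓSpecIso_inv_naturality _).symm]
  rfl

theorem res_incl {U V : X.affineOpens} (h : U.1 ≤ V.1) (t : Γ(XA x A, (pU x A V).1)) :
    incl x A U ((XA x A).presheaf.map (homOfLE (pU_mono x A h)).op t) =
      X.presheaf.map (homOfLE h).op (incl x A V t) := by
  show ((XA x A).presheaf.map _ ≫ (XAincl x A).appLE _ _ _) t = ((XAincl x A).appLE _ _ _ ≫ X.presheaf.map _) t
  rw [Scheme.Hom.map_appLE, Scheme.Hom.appLE_map]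

theorem jm_strMap (U : X.affineOpens) (c : k) :
    jm x A U (strMap x U.1 c) = am x A U (algebraMap k A c) := by
  show ((Scheme.ΓSpecIso (CommRingCat.of k)).inv ≫ x.appLE ⊤ U.1 _ ≫ (pr x A).app U.1) c =
    (CommRingCat.ofHom (algebraMap k A) ≫ (Scheme.ΓSpecIso (CommRingCat.of A)).inv ≫ (XApr x A).appLE ⊤ _ _) c
  rw [Scheme.Hom.app_eq_appLE, Scheme.Hom.appLE_comp_appLE, Scheme.ΓSpecIso_inv_naturality_assoc]
  simp only [pullback.condition (f := x) (g := specOver A)]
  simp only [Scheme.Hom.comp_appLE]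
  rfl

theorem isPushout (U : X.affineOpens) :
    IsPushout (CommRingCat.ofHom (strMap x U.1)) (CommRingCat.ofHom (algebraMap k A))
      (CommRingCat.ofHom (jm x A U)) (CommRingCat.ofHom (am x A U)) := by
  have H : IsPullback (pr x A) (XApr x A) x (specOver A) := IsPullback.of_hasPullback x (specOver A)
  have hUY : (pU x A U).1 = pr x A ⁻¹ᵁ U.1 ⊓ XApr x A ⁻¹ᵁ ⊤ := (inf_top_eq _).symm
  have hp := (isIso_pushoutSection_iff H (US := ⊤) (UT := ⊤) (UX := U.1) (le_of_eq rfl) (top_le_preimage x U.1) hUY).1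
    (isIso_pushoutSection_of_isAffineOpen H _ _ hUY (isAffineOpen_top _) (isAffineOpen_top _) U.2)
  refine hp.of_iso (Scheme.ΓSpecIso (CommRingCat.of k)) (Iso.refl _) (Scheme.ΓSpecIso (CommRingCat.of A)) (Iso.refl _)
    ?_ ?_ ?_ ?_
  · simp [strMap]
  · show (specOver A).appLE ⊤ ⊤ _ ≫ (Scheme.ΓSpecIso (CommRingCat.of A)).hom = _
    rw [show (specOver A).appLE ⊤ ⊤ (le_of_eq rfl) = (specOver A).appTop from by simp [Scheme.Hom.appLE]]
    exact Scheme.ΓSpecIso_naturality _
  · simp [jm, Scheme.Hom.app_eq_appLE]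
    rfl
  · simp [am, strMap]

theorem map_pU_le {B : Art k k} (g : A ⟶ B) (U : X.affineOpens) :
    (pU x B U).1 ≤ XAmap x g ⁻¹ᵁ (pU x A U).1 := by
  show _ ≤ (XAmap x g ≫ pr x A) ⁻¹ᵁ U.1
  rw [XAmap_fst]
  rfl

/-- Functoriality on charts. -/
def mapU {B : Art k k} (g : A ⟶ B) (U : X.affineOpens) :
    Γ(XA x A, (pU x A U).1) →+* Γ(XA x B, (pU x B U).1) :=
  ((XAmap x g).appLE (pU x A U).1 (pU x B U).1 (map_pU_le x A g U)).hom

theorem mapU_jm {B : Art k k} (g : A ⟶ B) (U : X.affineOpens) (a : Γ(X, U.1)) :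
    mapU x A g U (jm x A U a) = jm x B U a := by
  show ((pr x A).app U.1 ≫ (XAmap x g).appLE _ _ _) a = (pr x B).app U.1 a
  rw [Scheme.Hom.app_eq_appLE, Scheme.Hom.appLE_comp_appLE]
  simp only [XAmap_fst]
  rw [Scheme.Hom.app_eq_appLE]

theorem mapU_am {B : Art k k} (g : A ⟶ B) (U : X.affineOpens) (c : A) :
    mapU x A g U (am x A U c) = am x B U (g c) := by
  show ((Scheme.ΓSpecIso (CommRingCat.of A)).inv ≫ (XApr x A).appLE ⊤ _ _ ≫ (XAmap x g).appLE _ _ _) c =
    (CommRingCat.ofHom g.toAlgHom.toRingHom ≫ (Scheme.ΓSpecIso (CommRingCat.of B)).inv ≫ (XApr x B).appLE ⊤ _ _) c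
  rw [Scheme.Hom.appLE_comp_appLE, Scheme.ΓSpecIso_inv_naturality_assoc]
  simp only [XAmap_snd, Scheme.Hom.comp_appLE]
  rfl

theorem ideal_comap_map {B : Art k k} (g : A ⟶ B) (J : (XA x A).IdealSheafData) (U : X.affineOpens) :
    (J.comap (XAmap x g)).ideal (pU x B U) = (J.ideal (pU x A U)).map (mapU x A g U) :=
  FSchLib.ideal_comap_eq_map _ J _ _ _

theorem ideal_comap_incl (J : (XA x A).IdealSheafData) (U : X.affineOpens) :
    (J.comap (XAincl x A)).ideal U = (J.ideal (pU x A U)).map (incl x A U) :=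
  FSchLib.ideal_comap_eq_map _ J _ _ _

theorem isClosedImmersion_incl : IsClosedImmersion (XAincl x A) := by
  have h : IsPullback (XAincl x A) x (XApr x A) (specRes A) := by
    refine IsPullback.of_right (h₁₂ := pr x A) ?_ (XAincl_snd x A) (IsPullback.of_hasPullback x (specOver A))
    have h1 : XAincl x A ≫ pr x A = 𝟙 X := XAincl_fst x A
    have h2 : specRes A ≫ specOver A = 𝟙 (specPt k) :=
      (specRes_comp (ofBase A)).trans (Category.id_comp _).symm |>.trans (comp_specRes_base _)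
    rw [h1, h2]
    exact IsPullback.of_horiz_isIso ⟨by simp⟩
  exact InfAut29.isClosedImmersion_i A.res_surjective h

end Groth.Agent.HilbT29
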