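import Groth.Agent.HilbT29.Dual

/-!
# First order deformations of a closed subscheme are homomorphisms from its ideal
-/

set_option autoImplicit false
set_option backward.isDefEq.respectTransparency.types false
set_option backward.isDefEq.respectTransparency false
set_option linter.style.haveILetI false
universe u

open CategoryTheory CategoryTheory.Limits AlgebraicGeometry TopologicalSpace Opposite ArtFun ArtFun.Art
open Groth.Agent.ArtGlobal29
open scoped TensorProduct

noncomputable section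

namespace Groth.Agent.HilbT29

/-- A criterion of flatness over a ring whose only nontrivial ideal is generated by a square zero element. -/
theorem flat_of_eps {A : Type u} [CommRing A] (e : A) (he : e * e = 0)
    (hI : ∀ I : Ideal A, I ≠ ⊤ → I = ⊥ ∨ I = Ideal.span {e}) {M : Type u} [AddCommGroup M] [Module A M]
    (h : ∀ z : M, e • z = 0 → ∃ w, z = e • w) : Module.Flat A M := by
  rw [Module.Flat.iff_rTensor_injective']
  intro I
  rcases eq_or_ne I ⊤ with rfl | hne
  · have : Function.Bijective (Submodule.subtype (⊤ : Ideal A)) :=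
      ⟨Subtype.coe_injective, fun a => ⟨⟨a, trivial⟩, rfl⟩⟩
    exact (LinearEquiv.rTensor M (LinearEquiv.ofBijective _ this)).injective
  rcases hI I hne with rfl | rfl
  · intro a b _
    exact Subsingleton.elim _ _
  · let ε : ↥(Ideal.span ({e} : Set A)) := ⟨e, Ideal.mem_span_singleton_self e⟩
    have hform : ∀ t : ↥(Ideal.span ({e} : Set A)) ⊗[A] M, ∃ z, t = ε ⊗ₜ z := by
      intro t
      induction t with
      | zero => exact ⟨0, (TensorProduct.tmul_zero _ _).symm⟩
      | add a b ha hb =>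
        obtain ⟨z, rfl⟩ := ha
        obtain ⟨w, rfl⟩ := hb
        exact ⟨z + w, (TensorProduct.tmul_add _ _ _).symm⟩
      | tmul a z =>
        obtain ⟨c, hc⟩ := Ideal.mem_span_singleton'.1 a.2
        refine ⟨c • z, ?_⟩
        rw [← TensorProduct.smul_tmul]
        exact congrArg (· ⊗ₜ[A] z) (Subtype.ext hc.symm)
    rw [injective_iff_map_eq_zero]
    intro t ht
    obtain ⟨z, rfl⟩ := hform t
    have h0 : e • z = 0 := by
      simpa [ε] using congrArg (TensorProduct.lid A M) ht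
    obtain ⟨w, rfl⟩ := h z h0
    rw [← TensorProduct.smul_tmul]
    have : e • ε = 0 := Subtype.ext he
    rw [this, TensorProduct.zero_tmul]

theorem ideal_dual {k : Type u} [Field k] (I : Ideal (Ad k)) (h : I ≠ ⊤) : I = ⊥ ∨ I = Ideal.span {epsd k} := by
  rcases eq_or_ne I ⊥ with rfl | hne
  · exact Or.inl rfl
  refine Or.inr ?_
  have hle : I ≤ Ideal.span {epsd k} := by
    intro c hc
    have h0 : (Ad k).res c = 0 := by
      by_contra h0
      refine h (Ideal.eq_top_of_isUnit_mem _ hc ?_)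
      have hm := IsLocalRing.le_maximalIdeal h hc
      rw [← InfAut29.ker_eq (Ad k).res_surjective] at hm
      exact absurd hm h0
    rw [decompd c, h0, map_zero, zero_add]
    exact Ideal.mul_mem_right _ _ (Ideal.mem_span_singleton_self _)
  refine le_antisymm hle ?_
  obtain ⟨c, hc, hc0⟩ := Submodule.exists_mem_ne_zero_of_ne_bot hne
  obtain ⟨d, rfl⟩ := Ideal.mem_span_singleton'.1 (hle hc)
  rw [Ideal.span_singleton_le_iff_mem]
  have hu : IsUnit d := by
    by_contra hu
    refine hc0 ?_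
    have h0 : (Ad k).res d = 0 := by
      have hm : d ∈ IsLocalRing.maximalIdeal (Ad k) := hu
      rwa [← InfAut29.ker_eq (Ad k).res_surjective] at hm
    rw [decompd d, h0, map_zero, zero_add, mul_right_comm, epsd_sq, zero_mul]
  exact (Ideal.unit_mul_mem_iff_mem _ hu).1 hc

variable {k : Type u} [Field k] {X : Scheme.{u}} (x : X ⟶ specPt k) (I₀ : X.IdealSheafData)

/-- The functions on the closed subscheme over an affine open. -/
abbrev Q (U : X.affineOpens) : Type u := Γ(X, U.1) ⧸ I₀.ideal U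

/-- Restriction. -/
def resQ {U V : X.affineOpens} (h : U.1 ≤ V.1) : Q I₀ V →+* Q I₀ U :=
  Ideal.quotientMap _ (X.presheaf.map (homOfLE h).op).hom (I₀.ideal_le_comap_ideal h)

theorem resQ_mk {U V : X.affineOpens} (h : U.1 ≤ V.1) (b : Γ(X, V.1)) :
    resQ I₀ h (Ideal.Quotient.mk _ b) = Ideal.Quotient.mk _ (X.presheaf.map (homOfLE h).op b) := rfl

theorem res_mem {U V : X.affineOpens} (h : U.1 ≤ V.1) {f : Γ(X, V.1)} (hf : f ∈ I₀.ideal V) :
    X.presheaf.map (homOfLE h).op f ∈ I₀.ideal U := I₀.ideal_le_comap_ideal h hf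

/-- Compatible families of homomorphisms `I₀(U) → O/I₀ (U)`. -/
structure NH where
  φ : ∀ U : X.affineOpens, ↥(I₀.ideal U) →ₗ[Γ(X, U.1)] Q I₀ U
  nat : ∀ (U V : X.affineOpens) (h : U.1 ≤ V.1) (f : Γ(X, V.1)) (hf : f ∈ I₀.ideal V),
    φ U ⟨_, res_mem I₀ h hf⟩ = resQ I₀ h (φ V ⟨f, hf⟩)

theorem NH.ext {φ ψ : NH I₀} (h : ∀ U f, φ.φ U f = ψ.φ U f) : φ = ψ := by
  obtain ⟨a, _⟩ := φ
  obtain ⟨b, _⟩ := ψ
  obtain rfl : a = b := funext fun U => LinearMap.ext (h U)
  rfl

/-- The first order deformations. -/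
abbrev T : Type u := (localHilb X x I₀).obj (Ad k)

variable {x I₀}

theorem exists_lift (J : T x I₀) (U : X.affineOpens) {f : Γ(X, U.1)} (hf : f ∈ I₀.ideal U) :
    ∃ b, asm x U f b ∈ J.1.ideal (pU x (Ad k) U) := by
  haveI := isClosedImmersion_incl x (Ad k)
  have h := ideal_comap_incl x (Ad k) J.1 U
  rw [show J.1.comap (XAincl x (Ad k)) = I₀ from J.2.2] at h
  rw [h] at hf
  obtain ⟨t, ht, hft⟩ := (Ideal.mem_map_iff_of_surjective _ fun a => ⟨_, incl_jm x (Ad k) U a⟩).1 hf
  obtain ⟨a, b, rfl⟩ := exists_asm x U t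
  rw [incl_asm] at hft
  subst hft
  exact ⟨b, ht⟩

theorem fst_mem (J : T x I₀) {U : X.affineOpens} {a b : Γ(X, U.1)}
    (h : asm x U a b ∈ J.1.ideal (pU x (Ad k) U)) : a ∈ I₀.ideal U := by
  rw [← show J.1.comap (XAincl x (Ad k)) = I₀ from J.2.2, ideal_comap_incl]
  simpa [incl_asm] using Ideal.mem_map_of_mem (incl x (Ad k) U) h

theorem eps_mem (J : T x I₀) {U : X.affineOpens} {b : Γ(X, U.1)}
    (h : asm x U 0 b ∈ J.1.ideal (pU x (Ad k) U)) : b ∈ I₀.ideal U := by
  let W := pU x (Ad k) U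
  let q := (J.1.subschemeι.app W.1).hom
  haveI : Flat (J.1.subschemeι ≫ XApr x (Ad k)) := J.2.1
  have hWs : IsAffineOpen (J.1.subschemeι ⁻¹ᵁ W.1) := W.2.preimage J.1.subschemeι
  let s := strMap (J.1.subschemeι ≫ XApr x (Ad k)) (J.1.subschemeι ⁻¹ᵁ W.1)
  have hs : ∀ c, q (am x (Ad k) U c) = s c := fun c => by
    show ((Scheme.ΓSpecIso (CommRingCat.of (Ad k))).inv ≫ (XApr x (Ad k)).appLE ⊤ W.1 _ ≫ J.1.subschemeι.app W.1) c =
      ((Scheme.ΓSpecIso (CommRingCat.of (Ad k))).inv ≫ (J.1.subschemeι ≫ XApr x (Ad k)).appLE ⊤ _ _) c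
    rw [Scheme.Hom.app_eq_appLE, Scheme.Hom.appLE_comp_appLE]
  letI : Algebra (Ad k) Γ(J.1.subscheme, J.1.subschemeι ⁻¹ᵁ W.1) := s.toAlgebra
  haveI : Module.Flat (Ad k) Γ(J.1.subscheme, J.1.subschemeι ⁻¹ᵁ W.1) := flat_strMap _ hWs
  have h0 : s (epsd k) * q (jm x (Ad k) U b) = 0 := by
    rw [← hs, ← map_mul]
    have h1 : asm x U 0 b = am x (Ad k) U (epsd k) * jm x (Ad k) U b := by simp [asm, eU]
    rw [← h1]
    exact RingHom.mem_ker.1 ((J.1.ker_subschemeι_app W).symm ▸ h)
  have h2 := mem_map_of_mul_mem (C := Ad k) (A := Γ(J.1.subscheme, J.1.subschemeι ⁻¹ᵁ W.1)) (J := ⊥) (e := epsd k)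
    (fun c hc => by
      rw [Ideal.mem_bot, decompd c, add_mul, mul_comm (epsd k) (algebraMap k (Ad k) _), mul_assoc, epsd_sq, mul_zero,
        add_zero] at hc
      rw [← InfAut29.ker_eq (Ad k).res_surjective, RingHom.mem_ker]
      by_contra h0
      have h3 : epsd k = 0 := by
        have hu : IsUnit (algebraMap k (Ad k) ((Ad k).res c)) := (isUnit_iff_ne_zero.2 h0).map _
        exact hu.mul_right_eq_zero.1 hc
      exact absurd (congrArg TrivSqZeroExt.snd (show (DualNumber.eps : DualNumber k) = 0 from h3)) (by simp))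
    (q (jm x (Ad k) U b)) (by rw [Ideal.map_bot, Ideal.mem_bot]; exact h0)
  have hm : (IsLocalRing.maximalIdeal (Ad k)).map s ≤ Ideal.span {s (epsd k)} := by
    rw [Ideal.map_le_iff_le_comap]
    intro c hc
    rw [← InfAut29.ker_eq (Ad k).res_surjective, RingHom.mem_ker] at hc
    rw [Ideal.mem_comap, decompd c, show (Ad k).res c = 0 from hc, map_zero, zero_add, map_mul]
    exact Ideal.mul_mem_right _ _ (Ideal.mem_span_singleton_self _)
  obtain ⟨w, hw⟩ := Ideal.mem_span_singleton'.1 (hm h2)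
  obtain ⟨t, ht⟩ := J.1.subschemeι_app_surjective W w
  obtain ⟨c, d, rfl⟩ := exists_asm x U t
  have hmem : asm x U b (-c) ∈ J.1.ideal W := by
    rw [← J.1.ker_subschemeι_app W, RingHom.mem_ker]
    have e : asm x U b (-c) = jm x (Ad k) U b - asm x U c d * am x (Ad k) U (epsd k) := by
      show _ = _ - asm x U c d * eU x U
      simp only [asm, map_neg]
      linear_combination (jm x (Ad k) U d) * eU_sq x U
    show q (asm x U b (-c)) = 0
    rw [e, map_sub, map_mul, hs, show q (asm x U c d) = w from ht, hw, sub_self]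
  exact fst_mem J hmem

theorem eps_mem_of_mem (J : T x I₀) {U : X.affineOpens} {g : Γ(X, U.1)} (hg : g ∈ I₀.ideal U) :
    asm x U 0 g ∈ J.1.ideal (pU x (Ad k) U) := by
  obtain ⟨b, hb⟩ := exists_lift J U hg
  have : asm x U 0 g = asm x U 0 1 * asm x U g b := by rw [asm_mul]; simp
  rw [this]
  exact Ideal.mul_mem_left _ _ hb

variable (J : T x I₀)

/-- The second coordinate of a lift, modulo `I₀`. -/
def cls (U : X.affineOpens) (f : ↥(I₀.ideal U)) : Q I₀ U :=
  Ideal.Quotient.mk _ (exists_lift J U f.2).choose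

theorem cls_eq {U : X.affineOpens} {f : Γ(X, U.1)} {b : Γ(X, U.1)}
    (h : asm x U f b ∈ J.1.ideal (pU x (Ad k) U)) :
    cls J U ⟨f, fst_mem J h⟩ = Ideal.Quotient.mk _ b := by
  refine (Ideal.Quotient.mk_eq_mk_iff_sub_mem _ _).2 (eps_mem J ?_)
  have := Ideal.sub_mem _ (exists_lift J U (fst_mem J h)).choose_spec h
  rwa [asm_sub, sub_self] at this

theorem mem_iff {U : X.affineOpens} {f b : Γ(X, U.1)} :
    asm x U f b ∈ J.1.ideal (pU x (Ad k) U) ↔ ∃ hf : f ∈ I₀.ideal U, cls J U ⟨f, hf⟩ = Ideal.Quotient.mk _ b := by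
  refine ⟨fun h => ⟨fst_mem J h, cls_eq J h⟩, fun ⟨hf, h⟩ => ?_⟩
  have hb := (exists_lift J U hf).choose_spec
  have hd := (Ideal.Quotient.mk_eq_mk_iff_sub_mem _ _).1 h.symm
  have := Ideal.add_mem _ hb (eps_mem_of_mem J hd)
  rwa [asm_add, add_zero, add_sub_cancel] at this

/-- The homomorphism of a first order deformation. -/
def toNH : NH I₀ where
  φ U :=
    { toFun := cls J U
      map_add' := fun f g => by
        have h := Ideal.add_mem _ (exists_lift J U f.2).choose_spec (exists_lift J U g.2).choose_spec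
        rw [asm_add] at h
        exact (cls_eq J h).trans (map_add _ _ _)
      map_smul' := fun r f => by
        have h := Ideal.mul_mem_left _ (asm x U r 0) (exists_lift J U f.2).choose_spec
        rw [asm_mul, zero_mul, add_zero] at h
        exact cls_eq J h }
  nat U V h f hf := by
    have h1 := J.1.ideal_le_comap_ideal (pU_mono x (Ad k) h) (exists_lift J V hf).choose_spec
    rw [Ideal.mem_comap] at h1
    erw [res_asm x h] at h1
    exact (cls_eq J h1).trans (resQ_mk I₀ h _).symm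

variable {J}

theorem iSup_pU : ⨆ U : X.affineOpens, (pU x (Ad k) U).1 = ⊤ := by
  refine top_le_iff.1 fun z _ => ?_
  obtain ⟨U, hU, hz, -⟩ := Opens.isBasis_iff_nbhd.mp X.isBasis_affineOpens (Opens.mem_top (pr x (Ad k) z))
  exact Opens.mem_iSup.2 ⟨⟨U, hU⟩, hz⟩

theorem toNH_injective : Function.Injective (toNH (x := x) (I₀ := I₀)) := by
  intro J J' h
  refine Subtype.ext (Scheme.IdealSheafData.ext_of_iSup_eq_top _ iSup_pU fun U => ?_)
  ext t
  obtain ⟨a, b, rfl⟩ := exists_asm x U t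
  rw [mem_iff J, mem_iff J']
  exact exists_congr fun hf => by
    rw [show cls J U ⟨a, hf⟩ = cls J' U ⟨a, hf⟩ from congrArg (fun φ : NH I₀ => φ.φ U ⟨a, hf⟩) h]

end Groth.Agent.HilbT29
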