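import Groth.Agent.HilbT29.Chart

/-!
# Charts of the first order thickening `X ×_k Spec k[ε]`
-/

set_option autoImplicit false
set_option backward.isDefEq.respectTransparency.types false
set_option backward.isDefEq.respectTransparency false
set_option linter.style.haveILetI false
universe u

open CategoryTheory CategoryTheory.Limits AlgebraicGeometry TopologicalSpace Opposite ArtFun ArtFun.Art
open Groth.Agent.ArtGlobal29

noncomputable section

namespace Groth.Agent.HilbT29

variable {k : Type u} [Field k] {X : Scheme.{u}} (x : X ⟶ specPt k)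

/-- `k[ε]`. -/
abbrev Ad (k : Type u) [Field k] : Art k k := Art.dual k k

/-- `ε`. -/
def epsd (k : Type u) [Field k] : Ad k := (DualNumber.eps : DualNumber k)

theorem epsd_sq : epsd k * epsd k = 0 := DualNumber.eps_mul_eps

theorem res_epsd : (Ad k).res (epsd k) = 0 := DualNumber.fst_eps

theorem decompd_aux (c : DualNumber k) :
    c = algebraMap k (DualNumber k) (TrivSqZeroExt.fst c) +
      DualNumber.eps * algebraMap k (DualNumber k) (TrivSqZeroExt.snd c) := by
  show c = algebraMap k (DualNumber k) (TrivSqZeroExt.fst c) +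
      (TrivSqZeroExt.inr 1 : TrivSqZeroExt k k) * algebraMap k (DualNumber k) (TrivSqZeroExt.snd c)
  rw [TrivSqZeroExt.algebraMap_eq_inl, TrivSqZeroExt.inr_mul_inl]
  refine TrivSqZeroExt.ext ?_ ?_
  · simp only [TrivSqZeroExt.fst_add, TrivSqZeroExt.fst_inl, TrivSqZeroExt.fst_inr, add_zero]
  · simp only [TrivSqZeroExt.snd_add, TrivSqZeroExt.snd_inl, TrivSqZeroExt.snd_inr, zero_add]
    simp

theorem decompd (c : Ad k) :
    c = algebraMap k (Ad k) ((Ad k).res c) +
      epsd k * algebraMap k (Ad k) (TrivSqZeroExt.snd (show DualNumber k from c)) :=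
  decompd_aux c

/-- `ε` on a chart. -/
def eU (U : X.affineOpens) : Γ(XA x (Ad k), (pU x (Ad k) U).1) := am x (Ad k) U (epsd k)

theorem eU_sq (U : X.affineOpens) : eU x U * eU x U = 0 := by
  rw [eU, ← map_mul, epsd_sq, map_zero]

theorem res_eU {U V : X.affineOpens} (h : U.1 ≤ V.1) :
    (XA x (Ad k)).presheaf.map (homOfLE (pU_mono x (Ad k) h)).op (eU x V) = eU x U :=
  res_am x (Ad k) h _

theorem incl_eU (U : X.affineOpens) : incl x (Ad k) U (eU x U) = 0 := by
  rw [eU, incl_am, res_epsd, map_zero]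

/-- Assembling `a + εb`. -/
def asm (U : X.affineOpens) (a b : Γ(X, U.1)) : Γ(XA x (Ad k), (pU x (Ad k) U).1) :=
  jm x (Ad k) U a + eU x U * jm x (Ad k) U b

theorem asm_add (U : X.affineOpens) (a b a' b' : Γ(X, U.1)) :
    asm x U a b + asm x U a' b' = asm x U (a + a') (b + b') := by
  simp only [asm, map_add]; ring

theorem asm_sub (U : X.affineOpens) (a b a' b' : Γ(X, U.1)) :
    asm x U a b - asm x U a' b' = asm x U (a - a') (b - b') := by
  simp only [asm, map_sub]; ring

theorem asm_mul (U : X.affineOpens) (a b a' b' : Γ(X, U.1)) :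
    asm x U a b * asm x U a' b' = asm x U (a * a') (a * b' + b * a') := by
  simp only [asm, map_add, map_mul]
  linear_combination (jm x (Ad k) U b * jm x (Ad k) U b') * eU_sq x U

theorem incl_asm (U : X.affineOpens) (a b : Γ(X, U.1)) : incl x (Ad k) U (asm x U a b) = a := by
  rw [asm, map_add, map_mul, incl_jm, incl_jm, incl_eU, zero_mul, add_zero]

theorem res_asm {U V : X.affineOpens} (h : U.1 ≤ V.1) (a b : Γ(X, V.1)) :
    (XA x (Ad k)).presheaf.map (homOfLE (pU_mono x (Ad k) h)).op (asm x V a b) =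
      asm x U (X.presheaf.map (homOfLE h).op a) (X.presheaf.map (homOfLE h).op b) := by
  rw [asm, map_add, map_mul, res_jm x (Ad k) h, res_jm x (Ad k) h, res_eU x h]
  rfl

theorem exists_coords (U : X.affineOpens) :
    ∃ ψ : Γ(XA x (Ad k), (pU x (Ad k) U).1) →+* DualNumber Γ(X, U.1),
      (∀ a b, ψ (asm x U a b) = TrivSqZeroExt.inl a + TrivSqZeroExt.inr b) ∧
      ∀ t, asm x U (TrivSqZeroExt.fst (ψ t)) (TrivSqZeroExt.snd (ψ t)) = t := by
  let B := Γ(X, U.1)
  let s : k →+* B := strMap x U.1
  let gA : Ad k →+* DualNumber B :=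
    { toFun := fun c => TrivSqZeroExt.inl (s (TrivSqZeroExt.fst (show DualNumber k from c))) +
        TrivSqZeroExt.inr (s (TrivSqZeroExt.snd (show DualNumber k from c)))
      map_one' := by
        show TrivSqZeroExt.inl (s (TrivSqZeroExt.fst (1 : DualNumber k))) + TrivSqZeroExt.inr (s (TrivSqZeroExt.snd (1 : DualNumber k))) = _
        ext <;> simp
      map_mul' := fun c d => by
        show TrivSqZeroExt.inl (s (TrivSqZeroExt.fst ((show DualNumber k from c) * (show DualNumber k from d)))) +
          TrivSqZeroExt.inr (s (TrivSqZeroExt.snd ((show DualNumber k from c) * (show DualNumber k from d)))) = _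
        ext <;> simp
      map_zero' := by
        show TrivSqZeroExt.inl (s (TrivSqZeroExt.fst (0 : DualNumber k))) + TrivSqZeroExt.inr (s (TrivSqZeroExt.snd (0 : DualNumber k))) = _
        ext <;> simp
      map_add' := fun c d => by
        show TrivSqZeroExt.inl (s (TrivSqZeroExt.fst ((show DualNumber k from c) + (show DualNumber k from d)))) +
          TrivSqZeroExt.inr (s (TrivSqZeroExt.snd ((show DualNumber k from c) + (show DualNumber k from d)))) = _
        ext <;> simp }
  have hp := isPushout x (Ad k) U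
  let inlB : B →+* DualNumber B := TrivSqZeroExt.inlHom B B
  let ψ := hp.desc (CommRingCat.ofHom inlB) (CommRingCat.ofHom gA) (by
    refine CommRingCat.hom_ext (RingHom.ext fun c => ?_)
    show inlB (s c) = TrivSqZeroExt.inl (s (TrivSqZeroExt.fst (algebraMap k (DualNumber k) c))) +
      TrivSqZeroExt.inr (s (TrivSqZeroExt.snd (algebraMap k (DualNumber k) c)))
    simp [inlB, TrivSqZeroExt.algebraMap_eq_inl])
  have hj : ∀ a, ψ (jm x (Ad k) U a) = TrivSqZeroExt.inl a := fun a =>
    congr($(hp.inl_desc (CommRingCat.ofHom inlB) (CommRingCat.ofHom gA) _) a)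
  have he : ψ (eU x U) = TrivSqZeroExt.inr 1 := by
    refine (congr($(hp.inr_desc (CommRingCat.ofHom inlB) (CommRingCat.ofHom gA) _) (epsd k))).trans ?_
    show TrivSqZeroExt.inl (s (TrivSqZeroExt.fst (DualNumber.eps : DualNumber k))) +
      TrivSqZeroExt.inr (s (TrivSqZeroExt.snd (DualNumber.eps : DualNumber k))) = _
    simp
  have hasm : ∀ a b, ψ.hom (asm x U a b) = TrivSqZeroExt.inl a + TrivSqZeroExt.inr b := fun a b => by
    show ψ (jm x (Ad k) U a + eU x U * jm x (Ad k) U b) = _
    rw [map_add, map_mul, hj, hj, he, TrivSqZeroExt.inr_mul_inl]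
    simp
  refine ⟨ψ.hom, hasm, fun t => ?_⟩
  let Φ : DualNumber B →+* Γ(XA x (Ad k), (pU x (Ad k) U).1) :=
    { toFun := fun z => asm x U (TrivSqZeroExt.fst z) (TrivSqZeroExt.snd z)
      map_one' := by simp [asm]
      map_mul' := fun z w => by
        rw [asm_mul]
        congr 1 <;> simp
      map_zero' := by simp [asm]
      map_add' := fun z w => by
        rw [asm_add]
        rfl }
  have h : ψ ≫ CommRingCat.ofHom Φ = 𝟙 _ := by
    refine hp.hom_ext ?_ ?_
    · ext a
      show Φ (ψ (jm x (Ad k) U a)) = jm x (Ad k) U a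
      rw [hj]
      simp [Φ, asm]
    · ext c
      show Φ (ψ (am x (Ad k) U c)) = am x (Ad k) U c
      refine (congrArg Φ (congr($(hp.inr_desc (CommRingCat.ofHom inlB) (CommRingCat.ofHom gA) _) c))).trans ?_
      show asm x U (TrivSqZeroExt.fst (gA c)) (TrivSqZeroExt.snd (gA c)) = am x (Ad k) U c
      conv_rhs => rw [decompd c, map_add, map_mul, ← jm_strMap, ← jm_strMap]
      congr 1 <;> simp [gA, s, eU] <;> rfl
  exact congr($h t)

theorem exists_asm (U : X.affineOpens) (t : Γ(XA x (Ad k), (pU x (Ad k) U).1)) : ∃ a b, asm x U a b = t := by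
  obtain ⟨ψ, -, h⟩ := exists_coords x U
  exact ⟨_, _, h t⟩

theorem asm_inj (U : X.affineOpens) {a b a' b' : Γ(X, U.1)} (h : asm x U a b = asm x U a' b') : a = a' ∧ b = b' := by
  obtain ⟨ψ, hψ, -⟩ := exists_coords x U
  have := congrArg ψ h
  rw [hψ, hψ] at this
  exact ⟨by simpa using congrArg TrivSqZeroExt.fst this, by simpa using congrArg TrivSqZeroExt.snd this⟩

end Groth.Agent.HilbT29
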