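import Groth.Agent.HilbT29.Pair
import Groth.Agent.SerreDual.ExtLocFree
import Groth.Agent.OmegaLib.ConormalMap
import Groth.Agent.OmegaLib.DOmega

/-!
# Families of homomorphisms from the ideal are sections of the normal sheaf
-/

set_option autoImplicit false
set_option backward.isDefEq.respectTransparency.types false
set_option backward.isDefEq.respectTransparency false
set_option linter.style.haveILetI false
set_option maxHeartbeats 200000
universe u

open CategoryTheory CategoryTheory.Limits CategoryTheory.Abelian AlgebraicGeometry TopologicalSpace Opposite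
open Groth.Agent.ArtGlobal29 ArtFun ArtFun.Art

noncomputable section

namespace Groth.Agent.HilbT29

variable {k : Type u} [Field k] {X : Scheme.{u}} (x : X ⟶ specPt k) {I₀ : X.IdealSheafData}

/-- Functions of the closed subscheme on an affine open. -/
def qe (U : X.affineOpens) : Q I₀ U ≃+* Γ(I₀.subscheme, I₀.subschemeι ⁻¹ᵁ U.1) :=
  RingEquiv.ofBijective
    (Ideal.Quotient.lift _ (I₀.subschemeι.app U.1).hom fun a ha => RingHom.mem_ker.1 ((I₀.ker_subschemeι_app U).ge ha))
    ⟨RingHom.lift_injective_of_ker_le_ideal _ _ (I₀.ker_subschemeι_app U).le,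
      Ideal.Quotient.lift_surjective_of_surjective _ _ (I₀.subschemeι_app_surjective U)⟩

theorem qe_mk (U : X.affineOpens) (a : Γ(X, U.1)) :
    qe (I₀ := I₀) U (Ideal.Quotient.mk _ a) = I₀.subschemeι.app U.1 a := rfl

theorem qe_smul (U : X.affineOpens) (r : Γ(X, U.1)) (z : Q I₀ U) :
    qe U (r • z) = I₀.subschemeι.app U.1 r * qe U z := by
  obtain ⟨a, rfl⟩ := Ideal.Quotient.mk_surjective z
  rw [← Ideal.Quotient.mk_eq_mk, ← Submodule.Quotient.mk_smul, Ideal.Quotient.mk_eq_mk, Ideal.Quotient.mk_eq_mk,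
    qe_mk, qe_mk, smul_eq_mul, map_mul]

theorem qe_res {U V : X.affineOpens} (h : U.1 ≤ V.1) (z : Q I₀ V) :
    qe U (resQ I₀ h z) =
      I₀.subscheme.presheaf.map (homOfLE (I₀.subschemeι.preimage_mono h)).op (qe V z) := by
  obtain ⟨a, rfl⟩ := Ideal.Quotient.mk_surjective z
  rw [resQ_mk, qe_mk, qe_mk]
  exact congr($(I₀.subschemeι.naturality (homOfLE h).op) a)

variable (I₀) in
/-- The ideal module. -/
abbrev iM : X.Modules := ClSub.idealMod I₀

/-- The section with given value. -/
def secOf {U : X.affineOpens} (f : ↥(I₀.ideal U)) : Γ(iM I₀, U.1) :=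
  (OmegaLib.exists_idealSect I₀ U.2 f.2).choose

theorem idealSect_secOf {U : X.affineOpens} (f : ↥(I₀.ideal U)) : OmegaSh.idealSect I₀ U.1 (secOf f) = f.1 :=
  (OmegaLib.exists_idealSect I₀ U.2 f.2).choose_spec

theorem idealSect_smul (U : X.Opens) (r : Γ(X, U)) (s : Γ(iM I₀, U)) :
    OmegaSh.idealSect I₀ U (r • s) = r * OmegaSh.idealSect I₀ U s :=
  Scheme.Modules.Hom.app_smul (ClSub.idealModι I₀) r s

theorem idealSect_res {U V : X.Opens} (h : U ≤ V) (s : Γ(iM I₀, V)) :
    OmegaSh.idealSect I₀ U ((iM I₀).presheaf.map (homOfLE h).op s) =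
      X.presheaf.map (homOfLE h).op (OmegaSh.idealSect I₀ V s) :=
  congr($((ClSub.idealModι I₀).mapPresheaf.naturality (homOfLE h).op) s)

theorem secOf_smul (U : X.affineOpens) (r : Γ(X, U.1)) (f : ↥(I₀.ideal U)) : secOf (r • f) = r • secOf f :=
  OmegaLib.idealSect_injective I₀ U.1 (by rw [idealSect_smul, idealSect_secOf, idealSect_secOf]; rfl)

theorem secOf_add (U : X.affineOpens) (f g : ↥(I₀.ideal U)) : secOf (f + g) = secOf f + secOf g :=
  OmegaLib.idealSect_injective I₀ U.1 (by rw [map_add, idealSect_secOf, idealSect_secOf, idealSect_secOf]; rfl)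

variable (I₀) in
/-- The functions of the closed subscheme. -/
abbrev oY : X.Modules := (Scheme.Modules.pushforward I₀.subschemeι).obj (Coh.structureModule I₀.subscheme)

/-- The family of a morphism. -/
def ofHomY (g : iM I₀ ⟶ oY I₀) : NH I₀ where
  φ U :=
    { toFun := fun f => (qe U).symm (show Γ(I₀.subscheme, I₀.subschemeι ⁻¹ᵁ U.1) from g.app U.1 (secOf f))
      map_add' := fun a b => by
        rw [secOf_add, map_add]
        exact map_add (qe U).symm _ _
      map_smul' := fun r a => by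
        apply (qe U).injective
        rw [RingHom.id_apply, qe_smul, RingEquiv.apply_symm_apply, RingEquiv.apply_symm_apply, secOf_smul]
        exact Scheme.Modules.Hom.app_smul g r (secOf a) }
  nat U V h f hf := by
    apply (qe U).injective
    show qe U ((qe U).symm _) = qe U (resQ I₀ h ((qe V).symm _))
    rw [qe_res, RingEquiv.apply_symm_apply, RingEquiv.apply_symm_apply]
    have e : secOf (⟨_, res_mem I₀ h hf⟩ : I₀.ideal U) = (iM I₀).presheaf.map (homOfLE h).op (secOf ⟨f, hf⟩) :=
      OmegaLib.idealSect_injective I₀ U.1 (by rw [idealSect_res, idealSect_secOf, idealSect_secOf])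
    rw [e]
    exact congr($(g.mapPresheaf.naturality (homOfLE h).op) (secOf ⟨f, hf⟩))

theorem basis_affine : Opens.IsBasis (Set.range fun U : X.affineOpens => U.1) := by
  rw [show (Set.range fun U : X.affineOpens => U.1) = X.affineOpens from Subtype.range_val]
  exact X.isBasis_affineOpens

theorem ofHomY_injective : Function.Injective (ofHomY (I₀ := I₀)) := by
  intro g g' h
  refine Scheme.Modules.hom_ext _ _ fun W => ConcreteCategory.hom_ext _ _ fun s => ?_
  refine OmegaLib.section_ext (F := oY I₀) fun y hy => ?_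
  obtain ⟨_, ⟨U, rfl⟩, hyU, hle⟩ := Opens.isBasis_iff_nbhd.mp basis_affine hy
  refine ⟨U.1, hle, hyU, ?_⟩
  refine (congr($(g.mapPresheaf.naturality (homOfLE hle).op) s)).symm.trans
    (Eq.trans ?_ (congr($(g'.mapPresheaf.naturality (homOfLE hle).op) s)))
  let t := (iM I₀).presheaf.map (homOfLE hle).op s
  have ht : secOf (⟨_, OmegaLib.idealSect_mem I₀ U.2 t⟩ : I₀.ideal U) = t :=
    OmegaLib.idealSect_injective I₀ U.1 (idealSect_secOf _)
  have h1 := congrArg (fun φ : NH I₀ => qe U (φ.φ U ⟨_, OmegaLib.idealSect_mem I₀ U.2 t⟩)) h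
  simp only [ofHomY, LinearMap.coe_mk, AddHom.coe_mk, RingEquiv.apply_symm_apply] at h1
  rw [ht] at h1
  exact h1

theorem ofHomY_surjective : Function.Surjective (ofHomY (I₀ := I₀)) := by
  intro φ
  let M := iM I₀
  let N := oY I₀
  let δ : ∀ U : X.affineOpens, Γ(M, U.1) →+ Γ(N, U.1) := fun U =>
    AddMonoidHom.mk' (fun s => (show Γ(N, U.1) from qe U (φ.φ U ⟨_, OmegaLib.idealSect_mem I₀ U.2 s⟩))) fun a b => by
      rw [show (⟨_, OmegaLib.idealSect_mem I₀ U.2 (a + b)⟩ : I₀.ideal U) =
        ⟨_, OmegaLib.idealSect_mem I₀ U.2 a⟩ + ⟨_, OmegaLib.idealSect_mem I₀ U.2 b⟩ from Subtype.ext (map_add _ a b),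
        map_add, map_add]
  let G : TopCat.Sheaf Ab.{u} X.toTopCat := ⟨N.presheaf, N.isSheaf⟩
  let B : X.affineOpens → X.Opens := fun U => U.1
  let α : (inducedFunctor B).op ⋙ M.presheaf ⟶ (inducedFunctor B).op ⋙ G.1 :=
    { app := fun U => AddCommGrpCat.ofHom (δ U.unop)
      naturality := fun U V e => by
        ext s
        have h : V.unop.1 ≤ U.unop.1 := leOfHom ((inducedFunctor B).map e.unop)
        show (show Γ(N, V.unop.1) from qe V.unop (φ.φ V.unop ⟨OmegaSh.idealSect I₀ V.unop.1 (M.presheaf.map (homOfLE h).op s), _⟩)) =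
          N.presheaf.map (homOfLE h).op (show Γ(N, U.unop.1) from qe U.unop (φ.φ U.unop ⟨_, _⟩))
        rw [show (⟨OmegaSh.idealSect I₀ V.unop.1 (M.presheaf.map (homOfLE h).op s),
            OmegaLib.idealSect_mem I₀ V.unop.2 _⟩ : I₀.ideal V.unop) =
            ⟨_, res_mem I₀ h (OmegaLib.idealSect_mem I₀ U.unop.2 s)⟩ from Subtype.ext (idealSect_res h s),
          φ.nat V.unop U.unop h, qe_res]
        rfl }
  let β := TopCat.Sheaf.restrictHomEquivHom M.presheaf G basis_affine α
  have hβ : ∀ (U : X.affineOpens) (s : Γ(M, U.1)), (β.app (op U.1)).hom s = δ U s := fun U s => by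
    show ((TopCat.Sheaf.restrictHomEquivHom M.presheaf G basis_affine α).app (op (B U))).hom s = _
    rw [TopCat.Sheaf.extend_hom_app]
    rfl
  have hmap : ∀ {U V : X.Opens} (h : U ≤ V) (s : Γ(M, V)), (β.app (op U)).hom (M.presheaf.map (homOfLE h).op s) =
      N.presheaf.map (homOfLE h).op ((β.app (op V)).hom s) :=
    fun h s => ConcreteCategory.congr_hom (β.naturality (homOfLE h).op) s
  have hlin : ∀ (W : X.Opens) (r : Γ(X, W)) (a : Γ(M, W)),
      (show Γ(N, W) from (β.app (op W)).hom (r • a)) = r • (show Γ(N, W) from (β.app (op W)).hom a) := by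
    intro W r a
    refine OmegaLib.section_ext (F := N) fun y hy => ?_
    obtain ⟨_, ⟨U, rfl⟩, hyU, hle⟩ := Opens.isBasis_iff_nbhd.mp basis_affine hy
    refine ⟨U.1, hle, hyU, ?_⟩
    show N.presheaf.map (homOfLE hle).op ((β.app (op W)).hom (r • a)) =
      N.presheaf.map (homOfLE hle).op (r • (show Γ(N, W) from (β.app (op W)).hom a))
    rw [Scheme.Modules.map_smul (M := N), ← hmap hle, ← hmap hle, Scheme.Modules.map_smul (M := M), hβ, hβ]
    show qe U (φ.φ U ⟨OmegaSh.idealSect I₀ U.1 (X.presheaf.map (homOfLE hle).op r • M.presheaf.map (homOfLE hle).op a), _⟩) = _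
    rw [show (⟨OmegaSh.idealSect I₀ U.1 (X.presheaf.map (homOfLE hle).op r • M.presheaf.map (homOfLE hle).op a),
        OmegaLib.idealSect_mem I₀ U.2 _⟩ : I₀.ideal U) =
        X.presheaf.map (homOfLE hle).op r • ⟨_, OmegaLib.idealSect_mem I₀ U.2 (M.presheaf.map (homOfLE hle).op a)⟩ from
      Subtype.ext (idealSect_smul _ _ _), map_smul, qe_smul]
    rfl
  let g : M ⟶ N := ⟨PresheafOfModules.homMk β fun W r a => hlin W.unop r a⟩
  refine ⟨g, NH.ext I₀ fun U f => ?_⟩
  show (qe U).symm _ = φ.φ U f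
  rw [RingEquiv.symm_apply_eq]
  refine (hβ U (secOf f)).trans ?_
  exact congrArg (fun z => qe U (φ.φ U z)) (Subtype.ext (idealSect_secOf f))

/-- The identification of the pulled back ideal with the conormal sheaf. -/
def toConormal : (Scheme.Modules.pullback I₀.subschemeι).obj (iM I₀) ≅ Omega.conormal I₀.subschemeι :=
  (Scheme.Modules.pullback I₀.subschemeι).mapIso (eqToIso (congrArg ClSub.idealMod I₀.ker_subschemeι).symm)

/-- Morphisms from the conormal sheaf, on the ambient scheme. -/
def homToY : (Omega.conormal I₀.subschemeι ⟶ Coh.structureModule I₀.subscheme) ≃ (iM I₀ ⟶ oY I₀) :=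
  ({ toFun := fun a => (toConormal (I₀ := I₀)).hom ≫ a
     invFun := fun b => (toConormal (I₀ := I₀)).inv ≫ b
     left_inv := fun a => Iso.inv_hom_id_assoc _ a
     right_inv := fun b => Iso.hom_inv_id_assoc _ b } :
    (Omega.conormal I₀.subschemeι ⟶ Coh.structureModule I₀.subscheme) ≃
      ((Scheme.Modules.pullback I₀.subschemeι).obj (iM I₀) ⟶ Coh.structureModule I₀.subscheme)).trans
    ((Scheme.Modules.pullbackPushforwardAdjunction I₀.subschemeι).homEquiv _ _)

theorem homToY_apply (a : Omega.conormal I₀.subschemeι ⟶ Coh.structureModule I₀.subscheme) :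
    homToY a = (Scheme.Modules.pullbackPushforwardAdjunction I₀.subschemeι).unit.app _ ≫
      (Scheme.Modules.pushforward I₀.subschemeι).map ((toConormal (I₀ := I₀)).hom ≫ a) :=
  Adjunction.homEquiv_unit (adj := Scheme.Modules.pullbackPushforwardAdjunction I₀.subschemeι)
    (f := (toConormal (I₀ := I₀)).hom ≫ a)

/-- Morphisms from the conormal sheaf are families of homomorphisms from the ideal. -/
def homEquivNH : (Omega.conormal I₀.subschemeι ⟶ Coh.structureModule I₀.subscheme) ≃ NH I₀ :=
  (homToY (I₀ := I₀)).trans (Equiv.ofBijective _ ⟨ofHomY_injective, ofHomY_surjective⟩)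

theorem ofHomY_add (g g' : iM I₀ ⟶ oY I₀) (U : X.affineOpens) (f : I₀.ideal U) :
    (ofHomY (g + g')).φ U f = (ofHomY g).φ U f + (ofHomY g').φ U f := by
  show (qe U).symm _ = (qe U).symm _ + (qe U).symm _
  rw [← map_add]
  rfl

variable [X.Over (Spec (CommRingCat.of k))] [I₀.subscheme.Over (Spec (CommRingCat.of k))]

theorem res_toGlobal_eq_strMap (U : X.Opens) (c : k) :
    X.presheaf.map (homOfLE (le_top : U ≤ ⊤)).op (Coh.toGlobal (X ↘ Spec (CommRingCat.of k)) c) =
      strMap (X ↘ Spec (CommRingCat.of k)) U c := rfl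

theorem ofHomY_smul (g : iM I₀ ⟶ oY I₀) (c : k) (U : X.affineOpens) (f : I₀.ideal U) :
    (ofHomY (c • g)).φ U f =
      Ideal.Quotient.mk _ (strMap (X ↘ Spec (CommRingCat.of k)) U.1 c) * (ofHomY g).φ U f := by
  apply (qe U).injective
  show qe U ((qe U).symm _) = qe U (_ * (qe U).symm _)
  rw [map_mul, RingEquiv.apply_symm_apply, RingEquiv.apply_symm_apply, qe_mk, ← res_toGlobal_eq_strMap]
  exact KLin.smul_app_apply c g U.1 (secOf f)

theorem homEquivNH_add (a b : Omega.conormal I₀.subschemeι ⟶ Coh.structureModule I₀.subscheme)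
    (U : X.affineOpens) (f : I₀.ideal U) :
    (homEquivNH (a + b)).φ U f = (homEquivNH a).φ U f + (homEquivNH b).φ U f := by
  refine Eq.trans ?_ (ofHomY_add _ _ U f)
  refine congrArg (fun g => (ofHomY g).φ U f) ?_
  rw [homToY_apply, homToY_apply, homToY_apply, Preadditive.comp_add, Functor.map_add, Preadditive.comp_add]

theorem homEquivNH_smul [I₀.subschemeι.IsOver (Spec (CommRingCat.of k))] (c : k)
    (a : Omega.conormal I₀.subschemeι ⟶ Coh.structureModule I₀.subscheme) (U : X.affineOpens) (f : I₀.ideal U) :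
    (homEquivNH (c • a)).φ U f =
      Ideal.Quotient.mk _ (strMap (X ↘ Spec (CommRingCat.of k)) U.1 c) * (homEquivNH a).φ U f := by
  refine Eq.trans ?_ (ofHomY_smul _ c U f)
  refine congrArg (fun g => (ofHomY g).φ U f) ?_
  rw [homToY_apply, homToY_apply, Linear.comp_smul, Functor.map_smul, Linear.comp_smul]

theorem nonempty_hh_equiv_hom (C : I₀.subscheme.Modules) [DCoh.HasSheafHom C] (N : I₀.subscheme.Modules) :
    Nonempty (Coh.HH I₀.subscheme ((DCoh.sheafHom C).obj N) 0 ≃ₗ[k] (C ⟶ N)) := by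
  haveI := SerreDual.linear_internalHom k C
  let φ : (C ⟶ N) →ₗ[k] ((Coherent.freeModOn I₀.subscheme).obj ⊤ ⟶ (Coherent.internalHomFunctor C).obj N) :=
    { toFun := fun g => SerreDual.idHom C ≫ (Coherent.internalHomFunctor C).map g
      map_add' := fun g g' => by rw [Functor.map_add, Preadditive.comp_add]
      map_smul' := fun c g => by rw [Functor.map_smul, Linear.comp_smul]; rfl }
  exact ⟨(((SerreDual.hmapIso k ((Coherent.sheafHomIso C).app N) 0).trans
    (SerreDual.extHHLin k _ 0).symm).trans Ext.linearEquiv₀).trans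
      (LinearEquiv.ofBijective φ (SerreDual.bijective_idHom_comp C N)).symm⟩

/-- The tangent space of the local Hilbert functor, as morphisms out of the conormal sheaf. -/
def tangentEquiv (x : X ⟶ specPt k) :
    T x I₀ ≃ (Omega.conormal I₀.subschemeι ⟶ Coh.structureModule I₀.subscheme) :=
  (equivNH x).trans homEquivNH.symm

theorem nonempty_tangent_linearEquiv
    (hY : I₀.subscheme ↘ Spec (CommRingCat.of k) = I₀.subschemeι ≫ (X ↘ Spec (CommRingCat.of k)))
    [TangentStr (localHilb X (X ↘ Spec (CommRingCat.of k)) I₀)] :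
    Nonempty (TangentSpace (localHilb X (X ↘ Spec (CommRingCat.of k)) I₀) ≃ₗ[k]
      (Omega.conormal I₀.subschemeι ⟶ Coh.structureModule I₀.subscheme)) := by
  haveI : I₀.subschemeι.IsOver (Spec (CommRingCat.of k)) := ⟨hY.symm⟩
  let x := X ↘ Spec (CommRingCat.of k)
  let F := localHilb X x I₀
  let e : TangentSpace F ≃ (Omega.conormal I₀.subschemeι ⟶ Coh.structureModule I₀.subscheme) := tangentEquiv x
  have he : ∀ (J : T x I₀) U f, (homEquivNH (e J)).φ U f = (toNH J).φ U f := fun J U f =>
    congrArg (fun φ : NH I₀ => φ.φ U f) (homEquivNH.apply_symm_apply (toNH J))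
  have hsmul : ∀ (c : k) (v : TangentSpace F), e (c • v) = c • e v := fun c v => by
    refine homEquivNH.injective (NH.ext I₀ fun U f => ?_)
    rw [homEquivNH_smul, he v, he (c • v)]
    refine Eq.trans ?_ (toNH_scale x c v U f)
    exact congrArg (fun J => (toNH (x := x) J).φ U f) (TangentStr.smul_eq c v)
  have hadd : ∀ v w : TangentSpace F, e (v + w) = e v + e w := fun v w => by
    obtain ⟨z, hz₁, hz₂⟩ := exists_pair x v w
    refine homEquivNH.injective (NH.ext I₀ fun U f => ?_)
    rw [homEquivNH_add, he v, he w, he (v + w)]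
    have h := toNH_plus x z U f
    rw [hz₁, hz₂] at h
    refine Eq.trans ?_ h
    have h1 := TangentStr.add_eq (F := F) z
    rw [hz₁, hz₂] at h1
    exact congrArg (fun J => (toNH (x := x) J).φ U f) h1
  exact ⟨{ e with map_add' := hadd, map_smul' := hsmul }⟩

end Groth.Agent.HilbT29
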