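import Groth.Agent.HilbT29.Glue
import Groth.Agent.HilbT29.HomSheaf
import Groth.Agent.SemiExt29.Torsor

/-!
# Fibres of the local Hilbert functor along semismall extensions
-/

set_option autoImplicit false
set_option backward.isDefEq.respectTransparency.types false
set_option backward.isDefEq.respectTransparency false
set_option linter.style.haveILetI false
universe u

open CategoryTheory CategoryTheory.Limits AlgebraicGeometry ArtFun ArtFun.Art
open Groth.Agent.SemiExt29
open scoped TensorProduct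

noncomputable section

namespace Groth.Agent.HilbT29

variable {k : Type u} [Field k] {X : Scheme.{u}} (x : X ⟶ specPt k) (I₀ : X.IdealSheafData)

/-- Points over `k[W]` are tuples of first order deformations. -/
theorem nonempty_artW_equiv : ∀ n : ℕ,
    Nonempty ((localHilb X x I₀).obj (artW k k n) ≃ (Fin n → T x I₀))
  | 0 => by
    let inc : Art.base k k ⟶ artW k k 0 :=
      ⟨IsScalarTower.toAlgHom k k (TrivSqZeroExt k (Fin 0 → k)), AlgHom.ext fun c => rfl⟩
    have hid : toBase (artW k k 0) ≫ inc = 𝟙 _ := ArtFunLib.hom_ext_apply fun a =>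
      TrivSqZeroExt.ext (TrivSqZeroExt.fst_inl _ _) (Subsingleton.elim _ _)
    obtain ⟨⟨o⟩, hsub⟩ := h0_localHilb (x := x) (I₀ := I₀)
    haveI : Subsingleton ((localHilb X x I₀).obj (artW k k 0)) := ⟨fun a b => by
      rw [← ArtFunLib.map_id' (localHilb X x I₀) a, ← ArtFunLib.map_id' (localHilb X x I₀) b, ← hid,
        ← ArtFunLib.map_map, ← ArtFunLib.map_map, hsub.elim ((localHilb X x I₀).map (toBase _) a) _]⟩
    exact ⟨{ toFun := fun _ i => i.elim0
             invFun := fun _ => (localHilb X x I₀).map inc o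
             left_inv := fun _ => Subsingleton.elim _ _
             right_inv := fun f => funext fun i => i.elim0 }⟩
  | n + 1 => by
    obtain ⟨e⟩ := nonempty_artW_equiv n
    have hb : Function.Bijective fun z : (localHilb X x I₀).obj (artW k k (n + 1)) =>
        ((localHilb X x I₀).map (tailPr n) z, (localHilb X x I₀).map (headPr n) z) := by
      have hs : Function.Surjective (toBase (dual k k)) := (dual k k).res_surjective
      obtain ⟨hi, hj⟩ := bijective_cmp_localHilb (x := x) (I₀ := I₀) (SemiExt29.isFibreProd n) hs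
      refine ⟨fun a b h => (ArtFunLib.cmp_injective_iff (SemiExt29.isFibreProd n)).1 hi a b
        (congrArg Prod.fst h) (congrArg Prod.snd h), fun w => ?_⟩
      obtain ⟨z, h1, h2⟩ := (ArtFunLib.cmp_surjective_iff (SemiExt29.isFibreProd n)).1 hj w.1 w.2
        ((h0_localHilb (x := x) (I₀ := I₀)).2.elim _ _)
      exact ⟨z, Prod.ext h1 h2⟩
    exact ⟨(Equiv.ofBijective _ hb).trans ((e.prodCongr (Equiv.refl _)).trans
      ((Equiv.prodComm _ _).trans (Fin.consEquiv fun _ => T x I₀)))⟩

/-- The fibre of a point along a semismall extension, once nonempty. -/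
theorem nonempty_fibre_equiv {C' C : Art k k} {p : C' ⟶ C} (hp : IsSemismallExt p)
    (I : (localHilb X x I₀).obj C) (a₀ : (localHilb X x I₀).obj C') (ha₀ : (localHilb X x I₀).map p a₀ = I) :
    ∃ n, Nonempty ((Fin n → k) ≃ₗ[k] ↥(RingHom.ker p.toAlgHom)) ∧
      Nonempty ({I' : (localHilb X x I₀).obj C' // (localHilb X x I₀).map p I' = I} ≃ (Fin n → T x I₀)) := by
  obtain ⟨n, ⟨e⟩⟩ := exists_ker_equiv p
  refine ⟨n, ⟨e⟩, ?_⟩
  obtain ⟨θ⟩ := nonempty_artW_equiv x I₀ n
  have hW : Function.Surjective (toBase (artW k k n)) := (artW k k n).res_surjective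
  obtain ⟨P, q₁, q₂, hP⟩ := ArtFunLib.exists_fibreProd (toBase C') (toBase (artW k k n)) hW
  obtain ⟨r, hr⟩ := exists_twist hp e hP
  obtain ⟨ri, rj⟩ := bijective_cmp_localHilb (x := x) (I₀ := I₀) hr hp.1
  obtain ⟨qi, qj⟩ := bijective_cmp_localHilb (x := x) (I₀ := I₀) hP hW
  let F := localHilb X x I₀
  let Z := {z : F.obj P // F.map q₁ z = a₀}
  have h1 : Function.Bijective fun z : Z => (⟨F.map r z.1, by
      rw [ArtFunLib.map_map, ← hr.w, ← ArtFunLib.map_map, z.2, ha₀]⟩ : {I' : F.obj C' // F.map p I' = I}) := by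
    refine ⟨fun a b h => Subtype.ext ((ArtFunLib.cmp_injective_iff hr).1 ri a.1 b.1 (a.2.trans b.2.symm)
      (congrArg Subtype.val h)), fun w => ?_⟩
    obtain ⟨z, z1, z2⟩ := (ArtFunLib.cmp_surjective_iff hr).1 rj a₀ w.1 (ha₀.trans w.2.symm)
    exact ⟨⟨z, z1⟩, Subtype.ext z2⟩
  have h2 : Function.Bijective fun z : Z => F.map q₂ z.1 := by
    refine ⟨fun a b h => Subtype.ext ((ArtFunLib.cmp_injective_iff hP).1 qi a.1 b.1 (a.2.trans b.2.symm) h),
      fun w => ?_⟩
    obtain ⟨z, z1, z2⟩ := (ArtFunLib.cmp_surjective_iff hP).1 qj a₀ w ((h0_localHilb (x := x) (I₀ := I₀)).2.elim _ _)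
    exact ⟨⟨z, z1⟩, z2⟩
  exact ⟨((Equiv.ofBijective _ h1).symm.trans (Equiv.ofBijective _ h2)).trans θ⟩

end Groth.Agent.HilbT29
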