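import Groth.Agent.HilbT29.Point
import Mathlib.LinearAlgebra.Dual.Lemmas

/-!
# Zariski tangent space of the Hilbert scheme and the normal sheaf
-/

set_option autoImplicit false
set_option backward.isDefEq.respectTransparency.types false
set_option backward.isDefEq.respectTransparency false
set_option linter.style.haveILetI false
universe u

open CategoryTheory CategoryTheory.Limits AlgebraicGeometry TopologicalSpace Opposite ArtFun ArtFun.Art
open Groth.Agent.ArtGlobal29 Groth.Agent.H8Coh.RatTangent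
open IsLocalRing (CotangentSpace maximalIdeal)

noncomputable section

namespace Groth.Agent.HilbT29

variable {k : Type u} [Field k] {P : Scheme.{u}} {p : P ⟶ specPt k} {s : specPt k ⟶ P}
  (hs : s ≫ p = 𝟙 (specPt k))

include hs in
theorem theta_ext {v v' : Spec (CommRingCat.of (DualNumber k)) ⟶ P}
    {θ θ' : P.presheaf.stalk (pt s) →+* DualNumber k} (hθ : IsTheta p s v θ) (hθ' : IsTheta p s v' θ')
    (he : ∀ z : maximalIdeal (P.presheaf.stalk (pt s)), (θ z).snd = (θ' z).snd) : v = v' := by
  have : θ = θ' := RingHom.ext fun a => TrivSqZeroExt.ext ((hθ.fst a).trans (hθ'.fst a).symm) (by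
    rw [show a = (a - ρ p s (χ s a)) + ρ p s (χ s a) from (sub_add_cancel _ _).symm, map_add, map_add,
      TrivSqZeroExt.snd_add, TrivSqZeroExt.snd_add, hθ.base, hθ'.base, he ⟨_, sub_mem p s hs a⟩])
  rw [← hθ.spec, ← hθ'.spec, this]

theorem tszeMap_eq {M N : Type u} [AddCommGroup M] [Module k M] [Module kᵐᵒᵖ M] [IsCentralScalar k M]
    [AddCommGroup N] [Module k N] [Module kᵐᵒᵖ N] [IsCentralScalar k N] (l : M →ₗ[k] N) :
    (tszeMap (Λ := k) l).toRingHom = (TrivSqZeroExt.map l).toRingHom :=
  RingHom.ext fun a => TrivSqZeroExt.ext (TrivSqZeroExt.fst_map l a).symm (TrivSqZeroExt.snd_map l a).symm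

variable {Y : Scheme.{u}} {y : Y ⟶ specPt k} [IsProper y] {H : Over (specPt k)} {Z : FGA.HilbSet y H}
  (hH : FGA.HilbRepresentedBy y H Z) {X : Scheme.{u}} {i : X ⟶ Y} [IsClosedImmersion i]
  {h : Over.mk (𝟙 (specPt k)) ⟶ H}
  (hh : FGA.hilbPull y h Z.1 = i.ker.comap (pullback.fst y (Over.mk (𝟙 (specPt k))).hom))

include hH hh in
theorem nonempty_dual_equiv_hom [Y.Over (Spec (CommRingCat.of k))] (hy : Y ↘ Spec (CommRingCat.of k) = y)
    [i.ker.subscheme.Over (Spec (CommRingCat.of k))] :
    letI := (ρ H.hom h.left).toAlgebra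
    Nonempty ((CotangentSpace (H.left.presheaf.stalk (pt h.left)) →ₗ[k] k) ≃ₗ[k] (iM i.ker ⟶ oY i.ker)) := by
  have hs : h.left ≫ H.hom = 𝟙 (specPt k) := Over.w h
  let O : Type u := H.left.presheaf.stalk (pt h.left)
  letI : Algebra k O := (ρ H.hom h.left).toAlgebra
  choose v θ hv hθ hsnd using fun E : CotangentSpace O →ₗ[k] k => exists_of_cotForm H.hom h.left hs E
  let J : (CotangentSpace O →ₗ[k] k) → T y i.ker := fun E => defV hh (hv E)
  have hmap : ∀ {A : Art k k} (g : overA A ⟶ H) (hg : specRes A ≫ g.left = h.left) (α : A ⟶ Ad k)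
      (E : CotangentSpace O →ₗ[k] k), v E = specMap α ≫ g.left →
      (localHilb Y y i.ker).map α (defOf hh g hg) = J E :=
    fun g hg α E he => Subtype.ext (pullZ_map α g (Over.homMk (v E) (over_eq (hv E))) he).symm
  have hscale : ∀ (c : k) E, (localHilb Y y i.ker).map (scale c) (J E) = J (c • E) := by
    intro c E
    refine hmap _ _ (scale c) (c • E) ?_
    refine (theta_ext hs (hθ (c • E)) ((hθ E).map H.hom h.left hs (c • LinearMap.id)) fun z => ?_).trans ?_
    · show _ = (TrivSqZeroExt.map (c • LinearMap.id) (θ E z)).snd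
      rw [TrivSqZeroExt.snd_map, hsnd, hsnd]
      rfl
    · show Spec.map _ ≫ v E = Spec.map _ ≫ v E
      exact congrArg (fun r => Spec.map (CommRingCat.ofHom r) ≫ v E) (tszeMap_eq _).symm
  have hadd : ∀ E E', ∃ z : (localHilb Y y i.ker).obj (Ad2 k), (localHilb Y y i.ker).map Art.pr₁ z = J E ∧
      (localHilb Y y i.ker).map Art.pr₂ z = J E' ∧ (localHilb Y y i.ker).map Art.plus z = J (E + E') := by
    intro E E'
    let θ₂ : O →+* TrivSqZeroExt k (k × k) :=
      { toFun := fun a => TrivSqZeroExt.inl (χ h.left a) + TrivSqZeroExt.inr ((θ E a).snd, (θ E' a).snd)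
        map_one' := by ext <;> simp
        map_zero' := by ext <;> simp
        map_add' := fun a b => by ext <;> simp
        map_mul' := fun a b => TrivSqZeroExt.ext (by simp) (Prod.ext
          (by simp [(hθ E).fst, TrivSqZeroExt.snd_mul, op_smul_eq_smul])
          (by simp [(hθ E').fst, TrivSqZeroExt.snd_mul, op_smul_eq_smul])) }
    let v₂ : Spec (CommRingCat.of (TrivSqZeroExt k (k × k))) ⟶ H.left :=
      Spec.map (CommRingCat.ofHom θ₂) ≫ H.left.fromSpecStalk (pt h.left)
    have hbase : ∀ c, θ₂ (ρ H.hom h.left c) = algebraMap k (TrivSqZeroExt k (k × k)) c := fun c => by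
      rw [TrivSqZeroExt.algebraMap_eq_inl]
      refine TrivSqZeroExt.ext ?_ (Prod.ext ?_ ?_)
      · simp [θ₂, χ_ρ_apply H.hom h.left hs]
      · simp [θ₂, (hθ E).base, TrivSqZeroExt.algebraMap_eq_inl]
      · simp [θ₂, (hθ E').base, TrivSqZeroExt.algebraMap_eq_inl]
    have hover : v₂ ≫ H.hom = specOver (Ad2 k) := by
      rw [Category.assoc, ← specMap_ρ H.hom h.left, ← Spec.map_comp, ← CommRingCat.ofHom_comp]
      congr 2
      exact RingHom.ext hbase
    have hcen : specRes (Ad2 k) ≫ v₂ = h.left := by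
      conv_rhs => rw [← specMap_χ h.left]
      rw [← Category.assoc]
      show (Spec.map _ ≫ Spec.map _) ≫ _ = _
      rw [← Spec.map_comp, ← CommRingCat.ofHom_comp]
      congr 3
      refine RingHom.ext fun a => ?_
      show TrivSqZeroExt.fst (θ₂ a) = _
      simp [θ₂]
      rfl
    have hpr : ∀ (l : k × k →ₗ[k] k) (E₀ : CotangentSpace O →ₗ[k] k),
        (∀ z : maximalIdeal O, (θ E₀ z).snd = l ((θ E z).snd, (θ E' z).snd)) →
        v E₀ = Spec.map (CommRingCat.ofHom (tszeMap (Λ := k) l).toRingHom) ≫ v₂ := by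
      intro l E₀ hl
      rw [tszeMap_eq]
      have h₂ : IsTheta H.hom h.left v₂ θ₂ := ⟨rfl, fun a => by simp [θ₂], hbase⟩
      refine theta_ext hs (hθ E₀) (h₂.map H.hom h.left hs l) fun z => ?_
      show _ = (TrivSqZeroExt.map l (θ₂ z)).snd
      rw [TrivSqZeroExt.snd_map, hl]
      simp [θ₂]
    refine ⟨defOf hh (Over.homMk v₂ hover) hcen, hmap _ _ Art.pr₁ E ?_, hmap _ _ Art.pr₂ E' ?_,
      hmap _ _ Art.plus (E + E') ?_⟩
    · exact hpr _ E fun z => rfl
    · exact hpr _ E' fun z => rfl
    · refine hpr _ (E + E') fun z => ?_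
      rw [hsnd]
      simp [hsnd]
  let e₀ : (CotangentSpace O →ₗ[k] k) → (iM i.ker ⟶ oY i.ker) := fun E =>
    (Equiv.ofBijective _ ⟨ofHomY_injective, ofHomY_surjective⟩).symm (toNH (J E))
  have he₀ : ∀ E, ofHomY (e₀ E) = toNH (J E) := fun E =>
    (Equiv.ofBijective _ ⟨ofHomY_injective, ofHomY_surjective⟩).apply_symm_apply _
  have hbij : Function.Bijective e₀ := by
    refine (Equiv.bijective _).comp ((equivNH y).bijective.comp ⟨fun E E' he => ?_, fun J₀ => ?_⟩)
    · have h1 := eq_of_pullZ_eq hH _ _ (congrArg Subtype.val he)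
      have h2 : v E = v E' := congrArg (fun g => g.left) h1
      have h3 : θ E = θ E' := (hθ E).unique H.hom h.left hs (h2 ▸ hθ E')
      refine LinearMap.ext fun z => ?_
      obtain ⟨z, rfl⟩ := (maximalIdeal O).toCotangent_surjective z
      rw [← hsnd, ← hsnd, h3]
    · obtain ⟨g, hg, rfl⟩ := exists_point hh hH J₀
      have hc : Centred H.hom h.left (show Spec (CommRingCat.of (DualNumber k)) ⟶ H.left from g.left) := by
        refine ⟨?_, ?_⟩
        · refine (Over.w g).trans ?_
          rw [← Spec.map_comp, ← CommRingCat.ofHom_comp]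
          rfl
        · refine hg.trans ?_
          rw [show Spec.map (CommRingCat.ofHom (algebraMap k k)) = 𝟙 _ by
            rw [show CommRingCat.ofHom (algebraMap k k) = 𝟙 _ from rfl, Spec.map_id], Category.id_comp]
      obtain ⟨θ₀, hθ₀⟩ := exists_theta H.hom h.left hs hc
      obtain ⟨D, hD⟩ := exists_cotForm H.hom h.left hs hθ₀
      refine ⟨D, Subtype.ext ?_⟩
      show pullZ Z _ = pullZ Z g
      congr 1
      exact Over.OverMorphism.ext (theta_ext hs (hθ D) hθ₀ fun z => (hsnd D z).trans (hD z))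
  have hstr : ∀ (U : Y.affineOpens) (c : k), strMap (Y ↘ Spec (CommRingCat.of k)) U.1 c = strMap y U.1 c := by
    intro U c; rw [hy]
  refine ⟨{ Equiv.ofBijective e₀ hbij with
    map_add' := fun E E' => ofHomY_injective (NH.ext _ fun U f => ?_)
    map_smul' := fun c E => ofHomY_injective (NH.ext _ fun U f => ?_) }⟩
  · show (ofHomY (e₀ (E + E'))).φ U f = (ofHomY (e₀ E + e₀ E')).φ U f
    obtain ⟨z, h₁, h₂, h₃⟩ := hadd E E'
    rw [ofHomY_add, he₀, he₀, he₀, ← h₁, ← h₂, ← h₃]
    exact toNH_plus y z U f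
  · show (ofHomY (e₀ (c • E))).φ U f = (ofHomY (c • e₀ E)).φ U f
    rw [ofHomY_smul, he₀, he₀, hstr, ← hscale]
    exact toNH_scale y c (J E) U f

variable [X.Over (Spec (CommRingCat.of k))] [Y.Over (Spec (CommRingCat.of k))]

/-- Morphisms out of the conormal sheaf of a closed immersion, on the ambient scheme. -/
theorem nonempty_hom_equiv (i : X ⟶ Y) [IsClosedImmersion i] [i.IsOver (Spec (CommRingCat.of k))] :
    Nonempty ((Omega.conormal i ⟶ Coh.structureModule X) ≃ₗ[k] (iM i.ker ⟶ oY i.ker)) := by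
  let adj := Scheme.Modules.pullbackPushforwardAdjunction i
  haveI : IsIso i.toImage := inferInstance
  let μ : oY i.ker ≅ (Scheme.Modules.pushforward i).obj (Coh.structureModule X) :=
    (Scheme.Modules.pushforward i.ker.subschemeι).mapIso (FlatCx12.RelPCOps.pushStructureIso (asIso i.toImage)).symm ≪≫
      (Scheme.Modules.pushforwardComp i.toImage i.ker.subschemeι).app _ ≪≫
        (Scheme.Modules.pushforwardCongr i.toImage_imageι).app _
  refine ⟨{ toFun := fun a => adj.homEquiv _ _ a ≫ μ.inv
            invFun := fun b => (adj.homEquiv _ _).symm (b ≫ μ.hom)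
            left_inv := fun a => by
              show (adj.homEquiv _ _).symm ((adj.homEquiv _ _ a ≫ μ.inv) ≫ μ.hom) = a
              rw [Category.assoc, Iso.inv_hom_id, Category.comp_id, Equiv.symm_apply_apply]
            right_inv := fun b => by
              show adj.homEquiv _ _ ((adj.homEquiv _ _).symm (b ≫ μ.hom)) ≫ μ.inv = b
              rw [Equiv.apply_symm_apply, Category.assoc, Iso.hom_inv_id, Category.comp_id]
            map_add' := fun a b => by
              rw [Adjunction.homEquiv_unit, Adjunction.homEquiv_unit, Adjunction.homEquiv_unit, Functor.map_add,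
                Preadditive.comp_add, Preadditive.add_comp]
            map_smul' := fun c a => by
              rw [Adjunction.homEquiv_unit, Adjunction.homEquiv_unit, Functor.map_smul, Linear.comp_smul,
                Linear.smul_comp]
              rfl }⟩

omit [IsProper y] in
theorem nonempty_hh_equiv_hom' (C : X.Modules) [DCoh.HasSheafHom C] (N : X.Modules) :
    Nonempty (Coh.HH X ((DCoh.sheafHom C).obj N) 0 ≃ₗ[k] (C ⟶ N)) := by
  haveI := SerreDual.linear_internalHom k C
  let φ : (C ⟶ N) →ₗ[k] ((Coherent.freeModOn X).obj ⊤ ⟶ (Coherent.internalHomFunctor C).obj N) :=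
    { toFun := fun g => SerreDual.idHom C ≫ (Coherent.internalHomFunctor C).map g
      map_add' := fun g g' => by rw [Functor.map_add, Preadditive.comp_add]
      map_smul' := fun c g => by rw [Functor.map_smul, Linear.comp_smul]; rfl }
  exact ⟨(((SerreDual.hmapIso k ((Coherent.sheafHomIso C).app N) 0).trans
    (SerreDual.extHHLin k _ 0).symm).trans Abelian.Ext.linearEquiv₀).trans
      (LinearEquiv.ofBijective φ (SerreDual.bijective_idHom_comp C N)).symm⟩

end Groth.Agent.HilbT29
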