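import Groth.Prelude.Def_ArtFun6
import Groth.Agent.Et18.DefGlue
import Groth.Agent.FSchLib.Thickening
import Groth.Agent.FSchLib.Systems
import Groth.Agent.FlatMorThick.Affine
import Groth.Agent.InfAut29.Auto

/-!
# The local Hilbert functor takes fibre products along surjections to fibre products
-/

set_option autoImplicit false
set_option backward.isDefEq.respectTransparency.types false
set_option backward.isDefEq.respectTransparency false
set_option linter.style.haveILetI false
universe u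

open CategoryTheory CategoryTheory.Limits AlgebraicGeometry ArtFun ArtFun.Art
open Groth.Agent.ArtGlobal29

noncomputable section

namespace Groth.Agent.HilbT29

variable {k : Type u} [Field k] {X : Scheme.{u}} {x : X ⟶ specPt k} {I₀ : X.IdealSheafData}

/-- An embedded closed fibre square. -/
theorem isPullback_emb {A : Art k k} (ξ : DefSch I₀.subscheme (subOver x I₀) A) (e : ξ.total ⟶ XA x A)
    (hf : e ≫ XApr x A = ξ.f) (hi : ξ.i ≫ e = I₀.subschemeι ≫ XAincl x A) :
    IsPullback ξ.i I₀.subschemeι e (XAincl x A) := by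
  refine IsPullback.of_bot ?_ hi (ArtFun.isPullback_XAincl x A)
  rw [hf]
  exact ξ.isPullback

/-- A morphism to `X ×_k Spec A` which is the given closed immersion on the closed fibre is a closed immersion. -/
theorem isClosedImmersion_emb {A : Art k k} (ξ : DefSch I₀.subscheme (subOver x I₀) A) (e : ξ.total ⟶ XA x A)
    (hf : e ≫ XApr x A = ξ.f) (hi : ξ.i ≫ e = I₀.subschemeι ≫ XAincl x A) : IsClosedImmersion e := by
  have hci : IsClosedImmersion ξ.i := InfAut29.isClosedImmersion_i A.res_surjective ξ.isPullback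
  have hsurj : Surjective ξ.i := InfAut29.surjective_i ξ.isPullback
  have : IsClosedImmersion (XAincl x A) :=
    InfAut29.isClosedImmersion_i A.res_surjective (ArtFun.isPullback_XAincl x A)
  have hcomp : IsClosedImmersion (ξ.i ≫ e) := hi ▸ inferInstance
  have : IsAffineHom e := FlatMorThick.isAffineHom_of_comp_surjective ξ.i e
  refine isClosedImmersion_iff_isAffineHom.2 ⟨inferInstance, fun U hU => ?_⟩
  refine FSchLib.surjective_of_nilpotent (e.app U).hom (ξ.i.app (e ⁻¹ᵁ U)).hom
    (I := (IsLocalRing.maximalIdeal (A : Type u)).map (strMap (XApr x A) U)) ?_ ?_ ?_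
  · obtain ⟨N, hN⟩ := ArtFunLib.maximalIdeal_nilpotent A
    exact ⟨N, by rw [← Ideal.map_pow, hN]; exact Ideal.map_bot⟩
  · rw [InfAut29.ker_i_app A.res_surjective ξ.isPullback (hU.preimage e), Ideal.map_map]
    refine le_of_eq (congrArg (fun φ => (IsLocalRing.maximalIdeal (A : Type u)).map φ) ?_)
    refine RingHom.ext fun a => ?_
    show strMap ξ.f (e ⁻¹ᵁ U) a =
      ((Scheme.ΓSpecIso (CommRingCat.of A)).inv ≫ (XApr x A).appLE ⊤ U _ ≫ e.app U) a
    rw [Scheme.Hom.app_eq_appLE, Scheme.Hom.appLE_comp_appLE]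
    simp only [hf]
    rfl
  · rw [← CommRingCat.hom_comp, ← Scheme.Hom.comp_app]
    exact (ξ.i ≫ e).app_surjective U hU

theorem isIso_toKer {Y Z : Scheme.{u}} (e : Y ⟶ Z) [IsClosedImmersion e] :
    ∃ θ : Y ⟶ e.ker.subscheme, IsIso θ ∧ θ ≫ e.ker.subschemeι = e := by
  let θ := IsClosedImmersion.lift e.ker.subschemeι e (le_of_eq e.ker.ker_subschemeι)
  have hθ : θ ≫ e.ker.subschemeι = e := IsClosedImmersion.lift_fac _ _ _
  exact ⟨θ, IsClosedImmersion.isIso_of_ker_eq e e.ker.subschemeι θ hθ (by simp [Scheme.IdealSheafData.ker_subschemeι]), hθ⟩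

/-- The element given by an embedded deformation. -/
def ofEmb {A : Art k k} (ξ : DefSch I₀.subscheme (subOver x I₀) A) (e : ξ.total ⟶ XA x A)
    (hf : e ≫ XApr x A = ξ.f) (hi : ξ.i ≫ e = I₀.subschemeι ≫ XAincl x A) : (localHilb X x I₀).obj A :=
  ⟨e.ker, by
    haveI := isClosedImmersion_emb ξ e hf hi
    obtain ⟨θ, hθ, he⟩ := isIso_toKer e
    show Flat (e.ker.subschemeι ≫ XApr x A)
    rw [← MorphismProperty.cancel_left_of_respectsIso @Flat θ, ← Category.assoc, he, hf]
    exact ξ.flat, by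
    haveI := isClosedImmersion_emb ξ e hf hi
    rw [← FSchLib.ker_of_isPullback (isPullback_emb ξ e hf hi).flip, Scheme.IdealSheafData.ker_subschemeι]⟩

/-- The map on closed subschemes over a map of bases. -/
theorem exists_mor {A B : Art k k} (g : B ⟶ A) (a : (localHilb X x I₀).obj B) (b : (localHilb X x I₀).obj A)
    (h : (localHilb X x I₀).map g a = b) :
    ∃ m : Et18.DefGlue.Mor g (objectOf b) (objectOf a), m.hom ≫ a.1.subschemeι = b.1.subschemeι ≫ XAmap x g := by
  subst h
  have hle : a.1.subschemeι.ker ≤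
      (((localHilb X x I₀).map g a).1.subschemeι ≫ XAmap x g).ker := by
    rw [Scheme.IdealSheafData.ker_subschemeι]
    exact (Scheme.IdealSheafData.le_map_iff_comap_le).2 (le_of_eq rfl)
  let φ := IsClosedImmersion.lift a.1.subschemeι _ hle
  have hφ : φ ≫ a.1.subschemeι = ((localHilb X x I₀).map g a).1.subschemeι ≫ XAmap x g :=
    IsClosedImmersion.lift_fac _ _ _
  refine ⟨⟨φ, ?_, ?_⟩, hφ⟩
  · show φ ≫ a.1.subschemeι ≫ XApr x B = (((localHilb X x I₀).map g a).1.subschemeι ≫ XApr x A) ≫ specMap g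
    rw [← Category.assoc, hφ, Category.assoc, XAmap_snd, Category.assoc]
  · rw [← cancel_mono a.1.subschemeι, Category.assoc, hφ, objectOf_i_compat]
    show (objectOf ((localHilb X x I₀).map g a)).i ≫ ((localHilb X x I₀).map g a).1.subschemeι ≫ XAmap x g = _
    rw [← Category.assoc, objectOf_i_compat, Category.assoc, XAincl_XAmap]

/-- Restrictions of an embedded deformation. -/
theorem map_ofEmb {A B : Art k k} (g : B ⟶ A) (ξ : DefSch I₀.subscheme (subOver x I₀) B) (e : ξ.total ⟶ XA x B)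
    (hf : e ≫ XApr x B = ξ.f) (hi : ξ.i ≫ e = I₀.subschemeι ≫ XAincl x B)
    (b : (localHilb X x I₀).obj A) (n : Et18.DefGlue.Mor g (objectOf b) ξ)
    (hn : n.hom ≫ e = b.1.subschemeι ≫ XAmap x g) :
    (localHilb X x I₀).map g (ofEmb ξ e hf hi) = b := by
  haveI := isClosedImmersion_emb ξ e hf hi
  refine Subtype.ext ?_
  show e.ker.comap (XAmap x g) = b.1
  have sq : IsPullback n.hom b.1.subschemeι e (XAmap x g) := by
    refine IsPullback.of_bot ?_ hn (isPullback_XAmap x g)
    rw [hf]
    exact n.isPullback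
  rw [← FSchLib.ker_of_isPullback sq.flip, Scheme.IdealSheafData.ker_subschemeι]

variable {A A' A'' B : Art k k} {p' : B ⟶ A'} {p'' : B ⟶ A''} {f' : A' ⟶ A} {f'' : A'' ⟶ A}
  (h : IsFibreProd p' p'' f' f'') (hs : Function.Surjective f'')

include h hs in
/-- Gluing of abstract deformations, with the universal property of the glued scheme. -/
theorem exists_glue_pushout {Y : Scheme.{u}} {y : Y ⟶ specPt k} {η : DefSch Y y A} {ξ' : DefSch Y y A'}
    {ξ'' : DefSch Y y A''} (m' : Et18.DefGlue.Mor f' η ξ') (m'' : Et18.DefGlue.Mor f'' η ξ'') :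
    ∃ (W : DefSch Y y B) (n' : Et18.DefGlue.Mor p' ξ' W) (n'' : Et18.DefGlue.Mor p'' ξ'' W),
      IsPushout m''.hom m'.hom n''.hom n'.hom := by
  let S : KerEval.Sq (B : Type u) A' A'' A :=
    { f := p'.toAlgHom.toRingHom, g := p''.toAlgHom.toRingHom, q := f'.toAlgHom.toRingHom
      p := f''.toAlgHom.toRingHom, surj := hs, comm := h.w_apply
      exist := h.surj, ext := h.inj }
  have hq : S.q.IsIntegral := fun a => by
    letI := S.q.toAlgebra
    show IsIntegral (A' : Type u) a
    obtain ⟨N, hN⟩ := ArtFunLib.maximalIdeal_nilpotent A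
    have hd : a - f' (algebraMap k A' (A.res a)) ∈ IsLocalRing.maximalIdeal (A : Type u) := by
      rw [mem_maximalIdeal_iff, map_sub, Art.res_app, AlgHom.commutes, Algebra.algebraMap_self, RingHom.id_apply,
        sub_self]
    have h1 : IsIntegral (A' : Type u) (a - f' (algebraMap k A' (A.res a))) :=
      ⟨Polynomial.X ^ N, Polynomial.monic_X_pow N, by simpa [hN] using Ideal.pow_mem_pow hd N⟩
    have h2 := h1.add (isIntegral_algebraMap (R := (A' : Type u)) (A := (A : Type u))
      (x := algebraMap k A' (A.res a)))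
    rwa [show algebraMap (A' : Type u) (A : Type u) (algebraMap k A' (A.res a)) =
      f' (algebraMap k A' (A.res a)) from rfl, sub_add_cancel] at h2
  have hp : Function.Surjective (Spec.map (CommRingCat.ofHom S.p)) := fun z =>
    ⟨IsLocalRing.closedPoint A, @Subsingleton.elim (PrimeSpectrum A'') _ _ _⟩
  haveI := ξ'.flat
  haveI := ξ''.flat
  obtain ⟨W, sW, a, b, hW, ha, hb, hpo⟩ := Et18.FlatGlue.exists_flat_gluing S hq hp ξ''.f ξ'.f η.f
    m''.hom m'.hom m''.isPullback.flip m'.isPullback.flip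
  have hsq : IsPullback (ξ''.i ≫ a) y sW (specRes B) := by
    have := ξ''.isPullback.paste_horiz ha
    rwa [show specRes A'' ≫ KerEval.sp S.g = specRes B from specRes_comp p''] at this
  let Wd : DefSch Y y B := ⟨W, sW, hW, ξ''.i ≫ a, hsq⟩
  let n'' : Et18.DefGlue.Mor p'' ξ'' Wd := ⟨a, ha.w, rfl⟩
  let n' : Et18.DefGlue.Mor p' ξ' Wd := ⟨b, hb.w, by
    show ξ'.i ≫ b = ξ''.i ≫ a
    rw [← m'.i_hom, ← m''.i_hom, Category.assoc, Category.assoc, hpo.w]⟩
  exact ⟨Wd, n', n'', hpo⟩

include h hs in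
/-- The comparison map of the local Hilbert functor is bijective along a surjection. -/
theorem bijective_cmp_localHilb : Function.Bijective (cmp (localHilb X x I₀) h) := by
  constructor
  · refine (ArtFunLib.cmp_injective_iff h).2 fun z₁ z₂ h' h'' => ?_
    have hc : (localHilb X x I₀).map f' ((localHilb X x I₀).map p' z₁) =
        (localHilb X x I₀).map f'' ((localHilb X x I₀).map p'' z₁) := by
      rw [ArtFunLib.map_map, ArtFunLib.map_map, h.w]
    obtain ⟨m', hm'⟩ := exists_mor f' _ _ rfl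
    obtain ⟨m'', hm''⟩ := exists_mor f'' _ _ hc.symm
    obtain ⟨t', ht'⟩ := exists_mor p' z₁ _ rfl
    obtain ⟨t'', ht''⟩ := exists_mor p'' z₁ _ rfl
    obtain ⟨u', hu'⟩ := exists_mor p' z₂ _ h'.symm
    obtain ⟨u'', hu''⟩ := exists_mor p'' z₂ _ h''.symm
    obtain ⟨W, n', n'', hpo⟩ := exists_glue_pushout h hs m' m''
    have hw : ∀ (z : (localHilb X x I₀).obj B) (t' : Et18.DefGlue.Mor p' (objectOf ((localHilb X x I₀).map p' z₁)) (objectOf z))
        (t'' : Et18.DefGlue.Mor p'' (objectOf ((localHilb X x I₀).map p'' z₁)) (objectOf z))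
        (_ : t'.hom ≫ z.1.subschemeι = ((localHilb X x I₀).map p' z₁).1.subschemeι ≫ XAmap x p')
        (_ : t''.hom ≫ z.1.subschemeι = ((localHilb X x I₀).map p'' z₁).1.subschemeι ≫ XAmap x p''),
        ∃ φ : W.total ⟶ z.1.subscheme, IsIso φ ∧
          n'.hom ≫ φ ≫ z.1.subschemeι = ((localHilb X x I₀).map p' z₁).1.subschemeι ≫ XAmap x p' ∧
          n''.hom ≫ φ ≫ z.1.subschemeι = ((localHilb X x I₀).map p'' z₁).1.subschemeι ≫ XAmap x p'' := by
      intro z t' t'' e' e''
      have hcond : m''.hom ≫ t''.hom = m'.hom ≫ t'.hom := by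
        rw [← cancel_mono z.1.subschemeι, Category.assoc, Category.assoc, e', e'', ← Category.assoc, hm'',
          ← Category.assoc, hm', Category.assoc, Category.assoc, ← XAmap_comp, ← XAmap_comp, h.w]
      let φ := hpo.desc t''.hom t'.hom hcond
      have a1 : n''.hom ≫ φ = t''.hom := hpo.inl_desc _ _ _
      have a2 : n'.hom ≫ φ = t'.hom := hpo.inr_desc _ _ _
      refine ⟨φ, Et18.DefGlue.isIso_of_over (η := W) (ξ := objectOf z) φ ?_ ?_, ?_, ?_⟩
      · apply hpo.hom_ext
        · rw [← Category.assoc, a1, t''.w, n''.w]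
        · rw [← Category.assoc, a2, t'.w, n'.w]
      · rw [← n'.i_hom, Category.assoc, a2, t'.i_hom]
      · rw [← Category.assoc, a2, e']
      · rw [← Category.assoc, a1, e'']
    obtain ⟨φ₁, hφ₁, a₁, b₁⟩ := hw z₁ t' t'' ht' ht''
    obtain ⟨φ₂, hφ₂, a₂, b₂⟩ := hw z₂ u' u'' hu' hu''
    have key : φ₁ ≫ z₁.1.subschemeι = φ₂ ≫ z₂.1.subschemeι :=
      hpo.hom_ext (b₁.trans b₂.symm) (a₁.trans a₂.symm)
    have := congrArg (fun f => Scheme.Hom.ker f) key
    simp only [Scheme.Hom.ker_comp_of_isIso, Scheme.IdealSheafData.ker_subschemeι] at this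
    exact Subtype.ext this
  · refine (ArtFunLib.cmp_surjective_iff h).2 fun a' a'' ha => ?_
    obtain ⟨m', hm'⟩ := exists_mor f' a' _ rfl
    obtain ⟨m'', hm''⟩ := exists_mor f'' a'' _ ha.symm
    obtain ⟨W, n', n'', hpo⟩ := exists_glue_pushout h hs m' m''
    have hcond : m''.hom ≫ a''.1.subschemeι ≫ XAmap x p'' = m'.hom ≫ a'.1.subschemeι ≫ XAmap x p' := by
      rw [← Category.assoc, hm'', ← Category.assoc, hm', Category.assoc, Category.assoc, ← XAmap_comp,
        ← XAmap_comp, h.w]
    let e := hpo.desc _ _ hcond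
    have e1 : n''.hom ≫ e = a''.1.subschemeι ≫ XAmap x p'' := hpo.inl_desc _ _ _
    have e2 : n'.hom ≫ e = a'.1.subschemeι ≫ XAmap x p' := hpo.inr_desc _ _ _
    have hf : e ≫ XApr x B = W.f := by
      apply hpo.hom_ext
      · rw [← Category.assoc, e1, Category.assoc, XAmap_snd, n''.w, ← Category.assoc]
        rfl
      · rw [← Category.assoc, e2, Category.assoc, XAmap_snd, n'.w, ← Category.assoc]
        rfl
    have hi : W.i ≫ e = I₀.subschemeι ≫ XAincl x B := by
      rw [← n'.i_hom, Category.assoc, e2, ← Category.assoc, objectOf_i_compat, Category.assoc, XAincl_XAmap]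
    exact ⟨ofEmb W e hf hi, map_ofEmb p' W e hf hi a' n' e2, map_ofEmb p'' W e hf hi a'' n'' e1⟩

theorem isIso_XAincl_base (x : X ⟶ specPt k) : IsIso (XAincl x (base k k)) := by
  refine ⟨pullback.fst x (specOver (base k k)), XAincl_fst x _, ?_⟩
  have h1 : specMap (ofBase (base k k)) = 𝟙 (spec (base k k)) := by
    rw [ArtFunLib.base_subsingleton (ofBase (base k k)) (𝟙 _), specMap_id]
  apply pullback.hom_ext
  · rw [Category.assoc, XAincl_fst, Category.comp_id, Category.id_comp]
  · rw [Category.assoc, XAincl_snd, comp_specRes_base, Category.id_comp, pullback.condition]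
    exact (congrArg (XApr x (base k k) ≫ ·) h1).trans (Category.comp_id _)

theorem h0_localHilb : H0 (localHilb X x I₀) := by
  haveI := isIso_XAincl_base x
  refine ⟨⟨⟨I₀.comap (inv (XAincl x (base k k))), Et18.DefGlue.flat_x (k := k) (x := (I₀.comap (inv (XAincl x (base k k)))).subschemeι ≫ XApr x (base k k)), ?_⟩⟩, ⟨fun a b => Subtype.ext ?_⟩⟩
  · rw [← Scheme.IdealSheafData.comap_comp, IsIso.hom_inv_id, Scheme.IdealSheafData.comap_id]
  · have := congrArg (fun J : X.IdealSheafData => J.comap (inv (XAincl x (base k k)))) (a.2.2.trans b.2.2.symm)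
    simpa only [← Scheme.IdealSheafData.comap_comp, IsIso.inv_hom_id, Scheme.IdealSheafData.comap_id] using this

theorem heps_localHilb : Heps (localHilb X x I₀) :=
  fun _ _ _ _ h => bijective_cmp_localHilb h (Art.dual k k).res_surjective

theorem hbar_localHilb : Hbar (localHilb X x I₀) :=
  fun _ _ _ _ _ _ _ _ h hf => (bijective_cmp_localHilb h hf.1).2

theorem hsq_localHilb : HSq (localHilb X x I₀) :=
  fun _ _ _ _ _ _ h hf => bijective_cmp_localHilb h hf.1

end Groth.Agent.HilbT29
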