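import Groth.Agent.HilbT29.Surj

/-!
# Linearity of the classification of first order deformations
-/

set_option autoImplicit false
set_option backward.isDefEq.respectTransparency.types false
set_option backward.isDefEq.respectTransparency false
set_option linter.style.haveILetI false
universe u

open CategoryTheory CategoryTheory.Limits AlgebraicGeometry TopologicalSpace Opposite ArtFun ArtFun.Art
open Groth.Agent.ArtGlobal29

noncomputable section

namespace Groth.Agent.HilbT29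

variable {k : Type u} [Field k] {X : Scheme.{u}} (x : X ⟶ specPt k) {I₀ : X.IdealSheafData}

theorem tsze_inr {M : Type u} [AddCommGroup M] [Module k M] [Module kᵐᵒᵖ M] [IsCentralScalar k M] (l : M →ₗ[k] k) (v : M) :
    tszeMap (Λ := k) l (TrivSqZeroExt.inr v) = algebraMap k (DualNumber k) (l v) * TrivSqZeroExt.inr 1 := by
  rw [TrivSqZeroExt.algebraMap_eq_inl, TrivSqZeroExt.inl_mul_inr, smul_eq_mul, mul_one]
  exact TrivSqZeroExt.ext rfl rfl

theorem scale_epsd (c : k) : scale (Λ := k) c (epsd k) = algebraMap k (Ad k) c * epsd k := by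
  have h := tsze_inr (c • (LinearMap.id : k →ₗ[k] k)) 1
  rw [show (c • (LinearMap.id : k →ₗ[k] k)) 1 = c from mul_one c] at h
  exact h

theorem toNH_scale (c : k) (J : T x I₀) (U : X.affineOpens) (f : I₀.ideal U) :
    (toNH ((localHilb X x I₀).map (scale c) J)).φ U f = Ideal.Quotient.mk _ (strMap x U.1 c) * (toNH J).φ U f := by
  obtain ⟨b, hb⟩ := exists_lift J U f.2
  have h : asm x U f.1 (strMap x U.1 c * b) ∈
      ((localHilb X x I₀).map (scale c) J).1.ideal (pU x (Ad k) U) := by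
    show _ ∈ (J.1.comap (XAmap x (scale c))).ideal _
    rw [ideal_comap_map]
    have e : asm x U f.1 (strMap x U.1 c * b) = mapU x (Ad k) (scale c) U (asm x U f.1 b) := by
      simp only [asm, eU, map_add, map_mul, mapU_jm, mapU_am, scale_epsd, jm_strMap]
      ring
    rw [e]
    exact Ideal.mem_map_of_mem _ hb
  refine (cls_eq _ h).trans ?_
  rw [map_mul]
  exact congrArg _ (cls_eq J hb).symm

/-- `k[ε₁, ε₂]`. -/
abbrev Ad2 (k : Type u) [Field k] : Art k k := Art.dual2 k k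

/-- `ε₁`. -/
def e1 (k : Type u) [Field k] : Ad2 k := (TrivSqZeroExt.inr (1, 0) : TrivSqZeroExt k (k × k))

/-- `ε₂`. -/
def e2 (k : Type u) [Field k] : Ad2 k := (TrivSqZeroExt.inr (0, 1) : TrivSqZeroExt k (k × k))

theorem decomp2_aux (c : TrivSqZeroExt k (k × k)) :
    c = algebraMap k (TrivSqZeroExt k (k × k)) c.fst +
      TrivSqZeroExt.inr (1, 0) * algebraMap k (TrivSqZeroExt k (k × k)) c.snd.1 +
      TrivSqZeroExt.inr (0, 1) * algebraMap k (TrivSqZeroExt k (k × k)) c.snd.2 := by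
  simp only [TrivSqZeroExt.algebraMap_eq_inl, TrivSqZeroExt.inr_mul_inl]
  refine TrivSqZeroExt.ext ?_ (Prod.ext ?_ ?_)
  · simp
  · simp
  · simp

theorem decomp2 (c : Ad2 k) :
    c = algebraMap k (Ad2 k) (TrivSqZeroExt.fst (show TrivSqZeroExt k (k × k) from c)) +
      e1 k * algebraMap k (Ad2 k) (TrivSqZeroExt.snd (show TrivSqZeroExt k (k × k) from c)).1 +
      e2 k * algebraMap k (Ad2 k) (TrivSqZeroExt.snd (show TrivSqZeroExt k (k × k) from c)).2 :=
  decomp2_aux c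

theorem exists_decomp2 (U : X.affineOpens) (t : Γ(XA x (Ad2 k), (pU x (Ad2 k) U).1)) :
    ∃ a b₁ b₂, jm x (Ad2 k) U a + am x (Ad2 k) U (e1 k) * jm x (Ad2 k) U b₁ +
      am x (Ad2 k) U (e2 k) * jm x (Ad2 k) U b₂ = t := by
  let j := jm x (Ad2 k) U
  let α := am x (Ad2 k) U (e1 k)
  let β := am x (Ad2 k) U (e2 k)
  have hm : ∀ c d : Ad2 k, (show TrivSqZeroExt k (k × k) from c) * (show TrivSqZeroExt k (k × k) from d) = 0 →
      am x (Ad2 k) U c * am x (Ad2 k) U d = 0 := fun c d h => by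
    rw [← map_mul, show c * d = 0 from h, map_zero]
  have h11 : α * α = 0 := hm _ _ (TrivSqZeroExt.inr_mul_inr _ _ _)
  have h12 : α * β = 0 := hm _ _ (TrivSqZeroExt.inr_mul_inr _ _ _)
  have h22 : β * β = 0 := hm _ _ (TrivSqZeroExt.inr_mul_inr _ _ _)
  let S : Subring Γ(XA x (Ad2 k), (pU x (Ad2 k) U).1) :=
    { carrier := {t | ∃ a b₁ b₂, j a + α * j b₁ + β * j b₂ = t}
      zero_mem' := ⟨0, 0, 0, by simp⟩
      one_mem' := ⟨1, 0, 0, by simp⟩
      add_mem' := by
        rintro _ _ ⟨a, b₁, b₂, rfl⟩ ⟨a', b₁', b₂', rfl⟩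
        exact ⟨a + a', b₁ + b₁', b₂ + b₂', by simp only [map_add]; ring⟩
      neg_mem' := by
        rintro _ ⟨a, b₁, b₂, rfl⟩
        exact ⟨-a, -b₁, -b₂, by simp only [map_neg]; ring⟩
      mul_mem' := by
        rintro _ _ ⟨a, b₁, b₂, rfl⟩ ⟨a', b₁', b₂', rfl⟩
        exact ⟨a * a', a * b₁' + b₁ * a', a * b₂' + b₂ * a', by
          simp only [map_add, map_mul]
          linear_combination -(j b₁ * j b₁') * h11 - (j b₁ * j b₂' + j b₂ * j b₁') * h12 - (j b₂ * j b₂') * h22⟩ }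
  have hj : ∀ a, j a ∈ S := fun a => ⟨a, 0, 0, by simp⟩
  have ha : ∀ c, am x (Ad2 k) U c ∈ S := fun c =>
    ⟨strMap x U.1 _, strMap x U.1 _, strMap x U.1 _, by
      conv_rhs => rw [decomp2 c, map_add, map_add, map_mul, map_mul, ← jm_strMap, ← jm_strMap, ← jm_strMap]⟩
  have hp := isPushout x (Ad2 k) U
  let d := hp.desc (W := CommRingCat.of S) (CommRingCat.ofHom (j.codRestrict S hj))
    (CommRingCat.ofHom ((am x (Ad2 k) U).codRestrict S ha))
    (CommRingCat.hom_ext (RingHom.ext fun c => Subtype.ext (jm_strMap x (Ad2 k) U c)))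
  have h : d ≫ CommRingCat.ofHom S.subtype = 𝟙 _ := by
    refine hp.hom_ext ?_ ?_
    · rw [IsPushout.inl_desc_assoc, Category.comp_id]; rfl
    · rw [IsPushout.inr_desc_assoc, Category.comp_id]; rfl
  rw [← show (d t).1 = t from congr($h t)]
  exact (d t).2

theorem toNH_plus (z : (localHilb X x I₀).obj (Ad2 k)) (U : X.affineOpens) (f : I₀.ideal U) :
    (toNH ((localHilb X x I₀).map Art.plus z)).φ U f =
      (toNH ((localHilb X x I₀).map Art.pr₁ z)).φ U f + (toNH ((localHilb X x I₀).map Art.pr₂ z)).φ U f := by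
  have hf : f.1 ∈ (z.1.ideal (pU x (Ad2 k) U)).map (incl x (Ad2 k) U) := by
    rw [← ideal_comap_incl]
    exact (congrArg (fun I => Scheme.IdealSheafData.ideal I U) z.2.2.symm).le f.2
  obtain ⟨t, ht, hft⟩ := (Ideal.mem_map_iff_of_surjective _ fun a => ⟨_, incl_jm x (Ad2 k) U a⟩).1 hf
  obtain ⟨a, b₁, b₂, rfl⟩ := exists_decomp2 x U t
  have h1 : (Ad2 k).res (e1 k) = 0 := TrivSqZeroExt.fst_inr k ((1, 0) : k × k)
  have h2 : (Ad2 k).res (e2 k) = 0 := TrivSqZeroExt.fst_inr k ((0, 1) : k × k)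
  obtain rfl : a = f.1 := by
    simpa [incl_jm, incl_am, h1, h2] using hft
  have key : ∀ (g : Ad2 k ⟶ Ad k) (c₁ c₂ : k), g (e1 k) = algebraMap k (Ad k) c₁ * epsd k →
      g (e2 k) = algebraMap k (Ad k) c₂ * epsd k →
      (toNH ((localHilb X x I₀).map g z)).φ U f =
        Ideal.Quotient.mk _ (strMap x U.1 c₁ * b₁ + strMap x U.1 c₂ * b₂) := by
    intro g c₁ c₂ hg₁ hg₂
    refine cls_eq (f := f.1) _ ?_
    show _ ∈ (z.1.comap (XAmap x g)).ideal _
    rw [ideal_comap_map]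
    have e : asm x U f.1 (strMap x U.1 c₁ * b₁ + strMap x U.1 c₂ * b₂) = mapU x (Ad2 k) g U
        (jm x (Ad2 k) U f.1 + am x (Ad2 k) U (e1 k) * jm x (Ad2 k) U b₁ + am x (Ad2 k) U (e2 k) * jm x (Ad2 k) U b₂) := by
      simp only [asm, eU, map_add, map_mul, mapU_jm, mapU_am, hg₁, hg₂, jm_strMap]
      ring
    rw [e]
    exact Ideal.mem_map_of_mem _ ht
  rw [key Art.plus 1 1 ((tsze_inr _ _).trans (by simp; rfl)) ((tsze_inr _ _).trans (by simp; rfl)),
    key Art.pr₁ 1 0 (tsze_inr _ _) (tsze_inr _ _), key Art.pr₂ 0 1 (tsze_inr _ _) (tsze_inr _ _)]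
  simp

end Groth.Agent.HilbT29
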