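import Groth.Agent.HilbT29.Linear

/-!
# Two first order deformations come from one over `k[ε₁, ε₂]`
-/

set_option autoImplicit false
set_option backward.isDefEq.respectTransparency.types false
set_option backward.isDefEq.respectTransparency false
set_option linter.style.haveILetI false
universe u

open CategoryTheory CategoryTheory.Limits AlgebraicGeometry TopologicalSpace Opposite ArtFun ArtFun.Art
open Groth.Agent.ArtGlobal29
open scoped TensorProduct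

noncomputable section

namespace Groth.Agent.HilbT29

variable {k : Type u} [Field k] {X : Scheme.{u}} (x : X ⟶ specPt k) {I₀ : X.IdealSheafData}

/-- `a + b₁ε₁ + b₂ε₂`. -/
def asm2 (U : X.affineOpens) (a b₁ b₂ : Γ(X, U.1)) : Γ(XA x (Ad2 k), (pU x (Ad2 k) U).1) :=
  jm x (Ad2 k) U a + am x (Ad2 k) U (e1 k) * jm x (Ad2 k) U b₁ + am x (Ad2 k) U (e2 k) * jm x (Ad2 k) U b₂

theorem incl_asm2 (U : X.affineOpens) (a b₁ b₂ : Γ(X, U.1)) : incl x (Ad2 k) U (asm2 x U a b₁ b₂) = a := by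
  have h1 : (Ad2 k).res (e1 k) = 0 := TrivSqZeroExt.fst_inr k ((1, 0) : k × k)
  have h2 : (Ad2 k).res (e2 k) = 0 := TrivSqZeroExt.fst_inr k ((0, 1) : k × k)
  simp [asm2, incl_jm, incl_am, h1, h2]

theorem mapU_asm2 (g : Ad2 k ⟶ Ad k) (c₁ c₂ : k) (hg₁ : g (e1 k) = algebraMap k (Ad k) c₁ * epsd k)
    (hg₂ : g (e2 k) = algebraMap k (Ad k) c₂ * epsd k) (U : X.affineOpens) (a b₁ b₂ : Γ(X, U.1)) :
    mapU x (Ad2 k) g U (asm2 x U a b₁ b₂) = asm x U a (strMap x U.1 c₁ * b₁ + strMap x U.1 c₂ * b₂) := by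
  simp only [asm2, asm, eU, map_add, map_mul, mapU_jm, mapU_am, hg₁, hg₂, jm_strMap]
  ring

theorem mapU_pr₁ (U : X.affineOpens) (a b₁ b₂ : Γ(X, U.1)) :
    mapU x (Ad2 k) Art.pr₁ U (asm2 x U a b₁ b₂) = asm x U a b₁ := by
  rw [mapU_asm2 x Art.pr₁ 1 0 (tsze_inr _ _) (tsze_inr _ _)]
  simp

theorem mapU_pr₂ (U : X.affineOpens) (a b₁ b₂ : Γ(X, U.1)) :
    mapU x (Ad2 k) Art.pr₂ U (asm2 x U a b₁ b₂) = asm x U a b₂ := by
  rw [mapU_asm2 x Art.pr₂ 0 1 (tsze_inr _ _) (tsze_inr _ _)]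
  simp

theorem ideal_map_XAmap {A B : Art k k} (g : A ⟶ B) (J : (XA x B).IdealSheafData) (U : X.affineOpens) :
    (J.map (XAmap x g)).ideal (pU x A U) = (J.ideal (pU x B U)).comap (mapU x A g U) := by
  haveI : IsAffineHom (XAmap x g) :=
    MorphismProperty.of_isPullback (isPullback_XAmap x g).flip (isAffineHom_of_isAffine (specMap g))
  rw [Scheme.IdealSheafData.ideal_map_of_isAffineHom]
  have e : XAmap x g ⁻¹ᵁ (pU x A U).1 = (pU x B U).1 := by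
    show (XAmap x g ≫ pr x A) ⁻¹ᵁ U.1 = _
    rw [XAmap_fst]
    rfl
  ext t
  rw [Ideal.mem_comap, Ideal.mem_comap, mapU, Scheme.Hom.appLE, CommRingCat.comp_apply]
  let W : (XA x B).affineOpens := ⟨_, (pU x A U).2.preimage (XAmap x g)⟩
  have key : ∀ (V : (XA x B).affineOpens) (h : V.1 ≤ W.1) (_ : V = W) (s : Γ(XA x B, W.1)),
      ((XA x B).presheaf.map (homOfLE h).op s ∈ J.ideal V ↔ s ∈ J.ideal W) := by
    rintro V h rfl s
    rw [show homOfLE h = 𝟙 _ from rfl, op_id, CategoryTheory.Functor.map_id]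
    rfl
  exact (key (pU x B U) e.ge (Subtype.ext e.symm) _).symm

variable {x} (J J' : T x I₀)

/-- The ideal of the pair. -/
def pairIdeal : (XA x (Ad2 k)).IdealSheafData :=
  J.1.map (XAmap x Art.pr₁) ⊓ J'.1.map (XAmap x Art.pr₂)

theorem mem_pairIdeal {U : X.affineOpens} {a b₁ b₂ : Γ(X, U.1)} :
    asm2 x U a b₁ b₂ ∈ (pairIdeal J J').ideal (pU x (Ad2 k) U) ↔
      asm x U a b₁ ∈ J.1.ideal (pU x (Ad k) U) ∧ asm x U a b₂ ∈ J'.1.ideal (pU x (Ad k) U) := by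
  show asm2 x U a b₁ b₂ ∈ (J.1.map (XAmap x Art.pr₁)).ideal _ ⊓ (J'.1.map (XAmap x Art.pr₂)).ideal _ ↔ _
  rw [Ideal.mem_inf, ideal_map_XAmap, ideal_map_XAmap, Ideal.mem_comap, Ideal.mem_comap, mapU_pr₁, mapU_pr₂]

theorem iSup_pU2 : ⨆ U : X.affineOpens, (pU x (Ad2 k) U).1 = ⊤ := by
  refine top_le_iff.1 fun z _ => ?_
  obtain ⟨U, hU, hz, -⟩ := Opens.isBasis_iff_nbhd.mp X.isBasis_affineOpens (Opens.mem_top (pr x (Ad2 k) z))
  exact Opens.mem_iSup.2 ⟨⟨U, hU⟩, hz⟩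

theorem comap_pairIdeal_incl : (pairIdeal J J').comap (XAincl x (Ad2 k)) = I₀ := by
  refine Scheme.IdealSheafData.ext (funext fun U => ?_)
  rw [ideal_comap_incl]
  refine le_antisymm (Ideal.map_le_iff_le_comap.2 fun t ht => ?_) fun f hf => ?_
  · obtain ⟨a, b₁, b₂, rfl⟩ := exists_decomp2 x U t
    show incl x (Ad2 k) U (asm2 x U a b₁ b₂) ∈ I₀.ideal U
    rw [incl_asm2]
    exact fst_mem J ((mem_pairIdeal J J').1 ht).1
  · obtain ⟨b₁, h₁⟩ := exists_lift J U hf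
    obtain ⟨b₂, h₂⟩ := exists_lift J' U hf
    have := Ideal.mem_map_of_mem (incl x (Ad2 k) U) ((mem_pairIdeal J J').2 ⟨h₁, h₂⟩)
    rwa [incl_asm2] at this

theorem comap_pairIdeal_pr₁ : (pairIdeal J J').comap (XAmap x Art.pr₁) = J.1 := by
  refine Scheme.IdealSheafData.ext_of_iSup_eq_top _ iSup_pU fun U => ?_
  rw [ideal_comap_map]
  refine le_antisymm (Ideal.map_le_iff_le_comap.2 fun t ht => ?_) fun t ht => ?_
  · obtain ⟨a, b₁, b₂, rfl⟩ := exists_decomp2 x U t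
    show mapU x (Ad2 k) Art.pr₁ U (asm2 x U a b₁ b₂) ∈ J.1.ideal (pU x (Ad k) U)
    rw [mapU_pr₁]
    exact ((mem_pairIdeal J J').1 ht).1
  · obtain ⟨a, b, rfl⟩ := exists_asm x U t
    obtain ⟨b₂, h₂⟩ := exists_lift J' U (fst_mem J ht)
    have := Ideal.mem_map_of_mem (mapU x (Ad2 k) Art.pr₁ U) ((mem_pairIdeal J J').2 ⟨ht, h₂⟩)
    rwa [mapU_pr₁] at this

theorem comap_pairIdeal_pr₂ : (pairIdeal J J').comap (XAmap x Art.pr₂) = J'.1 := by
  refine Scheme.IdealSheafData.ext_of_iSup_eq_top _ iSup_pU fun U => ?_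
  rw [ideal_comap_map]
  refine le_antisymm (Ideal.map_le_iff_le_comap.2 fun t ht => ?_) fun t ht => ?_
  · obtain ⟨a, b₁, b₂, rfl⟩ := exists_decomp2 x U t
    show mapU x (Ad2 k) Art.pr₂ U (asm2 x U a b₁ b₂) ∈ J'.1.ideal (pU x (Ad k) U)
    rw [mapU_pr₂]
    exact ((mem_pairIdeal J J').1 ht).2
  · obtain ⟨a, b, rfl⟩ := exists_asm x U t
    obtain ⟨b₁, h₁⟩ := exists_lift J U (fst_mem J' ht)
    have := Ideal.mem_map_of_mem (mapU x (Ad2 k) Art.pr₂ U) ((mem_pairIdeal J J').2 ⟨h₁, ht⟩)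
    rwa [mapU_pr₂] at this

theorem flatOver_pairIdeal : FlatOver X x (Ad2 k) (pairIdeal J J') := by
  let I := pairIdeal J J'
  show Flat (I.subschemeι ≫ XApr x (Ad2 k))
  refine HasRingHomProperty.of_iSup_eq_top (P := @Flat)
    (fun U : X.affineOpens => ⟨I.subschemeι ⁻¹ᵁ (pU x (Ad2 k) U).1, (pU x (Ad2 k) U).2.preimage I.subschemeι⟩) ?_ fun U => ?_
  · rw [← Scheme.Hom.preimage_iSup, iSup_pU2]
    rfl
  let W := pU x (Ad2 k) U
  let q := (I.subschemeι.app W.1).hom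
  let s := strMap (I.subschemeι ≫ XApr x (Ad2 k)) (I.subschemeι ⁻¹ᵁ W.1)
  have hflat : s.Flat := by
    letI algM : Algebra (Ad2 k) Γ(I.subscheme, I.subschemeι ⁻¹ᵁ W.1) := s.toAlgebra
    let M := Γ(I.subscheme, I.subschemeι ⁻¹ᵁ W.1)
    letI : Algebra k Γ(X, U.1) := (strMap x U.1).toAlgebra
    letI : Algebra k M := (s.comp (algebraMap k (Ad2 k))).toAlgebra
    haveI : IsScalarTower k (Ad2 k) M := IsScalarTower.of_algebraMap_eq' rfl
    let V := Γ(X, U.1) ⧸ I₀.ideal U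
    let mkk : Γ(X, U.1) →ₗ[k] V := (Ideal.Quotient.mkₐ k (I₀.ideal U)).toLinearMap
    obtain ⟨σ, hσ⟩ := mkk.exists_rightInverse_of_surjective
      (LinearMap.range_eq_top.2 Ideal.Quotient.mk_surjective)
    have hσ' : ∀ v, Ideal.Quotient.mk (I₀.ideal U) (σ v) = v := fun v => LinearMap.congr_fun hσ v
    have hs : ∀ c, q (am x (Ad2 k) U c) = s c := fun c => by
      show ((Scheme.ΓSpecIso (CommRingCat.of (Ad2 k))).inv ≫ (XApr x (Ad2 k)).appLE ⊤ W.1 _ ≫ I.subschemeι.app W.1) c =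
        ((Scheme.ΓSpecIso (CommRingCat.of (Ad2 k))).inv ≫ (I.subschemeι ≫ XApr x (Ad2 k)).appLE ⊤ _ _) c
      rw [Scheme.Hom.app_eq_appLE, Scheme.Hom.appLE_comp_appLE]
    let qj : Γ(X, U.1) →ₐ[k] M :=
      { q.comp (jm x (Ad2 k) U) with
        commutes' := fun c => by
          show q (jm x (Ad2 k) U (strMap x U.1 c)) = s (algebraMap k (Ad2 k) c)
          rw [jm_strMap, hs] }
    let Ψ : Ad2 k ⊗[k] V →ₗ[Ad2 k] M := (qj.toLinearMap ∘ₗ σ).liftBaseChange (Ad2 k)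
    have hΨ : ∀ v w₁ w₂, Ψ ((1 : Ad2 k) ⊗ₜ v + e1 k ⊗ₜ w₁ + e2 k ⊗ₜ w₂) = q (asm2 x U (σ v) (σ w₁) (σ w₂)) := by
      intro v w₁ w₂
      simp only [Ψ, map_add, LinearMap.liftBaseChange_tmul, one_smul, Algebra.smul_def]
      simp only [asm2, map_add, map_mul, hs, map_one, one_mul]
      rfl
    have hform : ∀ z : Ad2 k ⊗[k] V, ∃ v w₁ w₂, z = (1 : Ad2 k) ⊗ₜ v + e1 k ⊗ₜ w₁ + e2 k ⊗ₜ w₂ := by
      intro z
      induction z with
      | zero => exact ⟨0, 0, 0, by simp⟩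
      | add z z' hz hz' =>
        obtain ⟨v, w₁, w₂, rfl⟩ := hz
        obtain ⟨v', w₁', w₂', rfl⟩ := hz'
        exact ⟨v + v', w₁ + w₁', w₂ + w₂', by simp only [TensorProduct.tmul_add]; abel⟩
      | tmul c v =>
        refine ⟨TrivSqZeroExt.fst (show TrivSqZeroExt k (k × k) from c) • v,
          (TrivSqZeroExt.snd (show TrivSqZeroExt k (k × k) from c)).1 • v,
          (TrivSqZeroExt.snd (show TrivSqZeroExt k (k × k) from c)).2 • v, ?_⟩
        have hsm : ∀ (d : Ad2 k) (r : k) (v : V), (d * algebraMap k (Ad2 k) r) ⊗ₜ[k] v = d ⊗ₜ[k] (r • v) :=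
          fun d r v => by rw [mul_comm, ← Algebra.smul_def, TensorProduct.smul_tmul]
        conv_lhs => rw [decomp2 c]
        rw [← one_mul (algebraMap k (Ad2 k) _), TensorProduct.add_tmul, TensorProduct.add_tmul, hsm, hsm, hsm]
    have hinj : Function.Injective Ψ := by
      rw [injective_iff_map_eq_zero]
      intro z hz
      obtain ⟨v, w₁, w₂, rfl⟩ := hform z
      rw [hΨ] at hz
      obtain ⟨h₁, h₂⟩ := (mem_pairIdeal J J').1 (show _ ∈ I.ideal W from (I.ker_subschemeι_app W) ▸ RingHom.mem_ker.2 hz)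
      obtain ⟨ha, hb₁⟩ := (mem_iff J).1 h₁
      obtain ⟨_, hb₂⟩ := (mem_iff J').1 h₂
      have hv : v = 0 := (hσ' v).symm.trans (Ideal.Quotient.eq_zero_iff_mem.2 ha)
      subst hv
      have e0 : (⟨σ 0, ha⟩ : I₀.ideal U) = 0 := Subtype.ext (map_zero σ)
      rw [e0, hσ'] at hb₁ hb₂
      have z₁ : (toNH J).φ U 0 = w₁ := hb₁
      have z₂ : (toNH J').φ U 0 = w₂ := hb₂
      rw [map_zero] at z₁ z₂
      simp [← z₁, ← z₂]
    have hsurj : Function.Surjective Ψ := by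
      intro m
      obtain ⟨t, rfl⟩ := I.subschemeι_app_surjective W m
      obtain ⟨a, b₁, b₂, rfl⟩ := exists_decomp2 x U t
      have hf : a - σ (Ideal.Quotient.mk _ a) ∈ I₀.ideal U := by
        rw [← Ideal.Quotient.eq_zero_iff_mem, map_sub, hσ', sub_self]
      obtain ⟨g₁, h₁⟩ := exists_lift J U hf
      obtain ⟨g₂, h₂⟩ := exists_lift J' U hf
      refine ⟨(1 : Ad2 k) ⊗ₜ Ideal.Quotient.mk _ a + e1 k ⊗ₜ Ideal.Quotient.mk _ (b₁ - g₁) +
        e2 k ⊗ₜ Ideal.Quotient.mk _ (b₂ - g₂), ?_⟩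
      rw [hΨ]
      symm
      rw [← sub_eq_zero, ← map_sub]
      refine RingHom.mem_ker.1 ((I.ker_subschemeι_app W).ge ?_)
      have hd : ∀ c : Γ(X, U.1), c - σ (Ideal.Quotient.mk _ c) ∈ I₀.ideal U := fun c => by
        rw [← Ideal.Quotient.eq_zero_iff_mem, map_sub, hσ', sub_self]
      have e : asm2 x U a b₁ b₂ -
          asm2 x U (σ (Ideal.Quotient.mk _ a)) (σ (Ideal.Quotient.mk _ (b₁ - g₁))) (σ (Ideal.Quotient.mk _ (b₂ - g₂))) =
          asm2 x U (a - σ (Ideal.Quotient.mk _ a)) g₁ g₂ +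
            asm2 x U 0 (b₁ - g₁ - σ (Ideal.Quotient.mk _ (b₁ - g₁))) (b₂ - g₂ - σ (Ideal.Quotient.mk _ (b₂ - g₂))) := by
        simp only [asm2, map_sub, map_zero]
        ring
      show asm2 x U a b₁ b₂ - _ ∈ _
      rw [e]
      exact add_mem ((mem_pairIdeal J J').2 ⟨h₁, h₂⟩)
        ((mem_pairIdeal J J').2 ⟨eps_mem_of_mem J (hd _), eps_mem_of_mem J' (hd _)⟩)
    exact Module.Flat.of_linearEquiv (LinearEquiv.ofBijective Ψ ⟨hinj, hsurj⟩).symm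
  have h2 : ((I.subschemeι ≫ XApr x (Ad2 k)).appLE ⊤ (I.subschemeι ⁻¹ᵁ W.1) (top_le_preimage _ _)).hom =
      s.comp (Scheme.ΓSpecIso (CommRingCat.of (Ad2 k))).hom.hom := by
    ext c
    show _ = ((Scheme.ΓSpecIso _).hom ≫ (Scheme.ΓSpecIso _).inv ≫ (I.subschemeι ≫ XApr x (Ad2 k)).appLE ⊤ _ _) c
    rw [Iso.hom_inv_id_assoc]
  rw [h2]
  exact (RingHom.Flat.of_bijective (ConcreteCategory.bijective_of_isIso _)).comp hflat

variable (x) in
theorem exists_pair (J J' : T x I₀) : ∃ z : (localHilb X x I₀).obj (Ad2 k),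
    (localHilb X x I₀).map Art.pr₁ z = J ∧ (localHilb X x I₀).map Art.pr₂ z = J' :=
  ⟨⟨pairIdeal J J', flatOver_pairIdeal J J', comap_pairIdeal_incl J J'⟩,
    Subtype.ext (comap_pairIdeal_pr₁ J J'), Subtype.ext (comap_pairIdeal_pr₂ J J')⟩

end Groth.Agent.HilbT29
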