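import Groth.Agent.HilbT29.HomSheaf
import Groth.Agent.H8Coh.RatTangent
import Groth.Agent.FlatMor12.HilbBC
import Groth.Agent.FlatCx12.RelPCOps

/-!
# The tangent space of the Hilbert scheme at a rational point
-/

set_option autoImplicit false
set_option backward.isDefEq.respectTransparency.types false
set_option backward.isDefEq.respectTransparency false
set_option linter.style.haveILetI false
universe u

open CategoryTheory CategoryTheory.Limits AlgebraicGeometry TopologicalSpace Opposite ArtFun ArtFun.Art
open Groth.Agent.ArtGlobal29 Groth.Agent.H8Coh.RatTangent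
open IsLocalRing (CotangentSpace maximalIdeal)

noncomputable section

namespace Groth.Agent.HilbT29

variable {k : Type u} [Field k] {Y : Scheme.{u}} {y : Y ⟶ specPt k}
  {H : Over (specPt k)} {Z : FGA.HilbSet y H}

/-- Properties stable under base change pass to inverse images of closed subschemes. -/
theorem prop_comap (P : MorphismProperty Scheme.{u}) [P.IsStableUnderBaseChange] [P.RespectsIso]
    {A B S T : Scheme.{u}} {m : A ⟶ B} {q' : A ⟶ S} {q : B ⟶ T} {t : S ⟶ T} (hm : IsPullback m q' q t)
    {I : B.IdealSheafData} (hI : P (I.subschemeι ≫ q)) : P ((I.comap m).subschemeι ≫ q') := by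
  have sq : IsPullback (pullback.snd m I.subschemeι) (pullback.fst m I.subschemeι ≫ q') (I.subschemeι ≫ q) t :=
    IsPullback.paste_vert (IsPullback.of_hasPullback m I.subschemeι).flip hm
  have h := MorphismProperty.of_isPullback (P := P) sq hI
  rw [← Scheme.IdealSheafData.comapIso_hom_fst, Category.assoc]
  exact (MorphismProperty.cancel_left_of_respectsIso P (I.comapIso m).hom _).2 h

variable (y) in
theorem isPullback_XTmap {T T' : Over (specPt k)} (g : T' ⟶ T) :
    IsPullback (PicF.XTmap y g) (PicF.XTproj y T') (PicF.XTproj y T) g.left := by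
  refine IsPullback.of_right ?_ (by simp [PicF.XTmap]) (IsPullback.of_hasPullback y T.hom)
  rw [show PicF.XTmap y g ≫ pullback.fst y T.hom = pullback.fst y T'.hom by simp [PicF.XTmap],
    Over.w g]
  exact IsPullback.of_hasPullback y T'.hom

/-- The family over an Artinian point. -/
abbrev overA (A : Art k k) : Over (specPt k) := Over.mk (specOver A)

/-- The pullback of the universal family. -/
def pullZ {A : Art k k} (Z : FGA.HilbSet y H) (g : overA A ⟶ H) : (XA y A).IdealSheafData :=
  Z.1.comap (PicF.XTmap y g)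

theorem flatOver_pullZ {A : Art k k} (g : overA A ⟶ H) : FlatOver Y y A (pullZ Z g) :=
  prop_comap @Flat (isPullback_XTmap y g) Z.2.2

theorem isProper_pullZ {A : Art k k} (g : overA A ⟶ H) :
    IsProper ((pullZ Z g).subschemeι ≫ XApr y A) :=
  prop_comap @IsProper (isPullback_XTmap y g) Z.2.1

theorem pullZ_map {A B : Art k k} (α : A ⟶ B) (gA : overA A ⟶ H) (gB : overA B ⟶ H)
    (h : gB.left = specMap α ≫ gA.left) : pullZ Z gB = (pullZ Z gA).comap (XAmap y α) := by
  rw [pullZ, pullZ, ← Scheme.IdealSheafData.comap_comp]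
  congr 1
  refine pullback.hom_ext ?_ ?_
  · simp [PicF.XTmap, XAmap]
  · simp [PicF.XTmap, XAmap, h]

variable {X : Scheme.{u}} {i : X ⟶ Y} [IsClosedImmersion i] {h : Over.mk (𝟙 (specPt k)) ⟶ H}
  (hh : FGA.hilbPull y h Z.1 = i.ker.comap (pullback.fst y (Over.mk (𝟙 (specPt k))).hom))

variable (y) in
/-- The section of the trivial base change. -/
def secId : Y ⟶ PicF.XT y (Over.mk (𝟙 (specPt k))) := pullback.lift (𝟙 Y) y (by simp)

theorem fst_secId : pullback.fst y (Over.mk (𝟙 (specPt k))).hom ≫ secId y = 𝟙 _ := by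
  refine pullback.hom_ext ?_ ?_
  · simp [secId]
  · rw [Category.assoc, secId, pullback.lift_snd, pullback.condition, Category.id_comp]
    exact Category.comp_id _

include hh in
theorem comap_incl_pullZ {A : Art k k} (g : overA A ⟶ H) (hg : specRes A ≫ g.left = h.left) :
    (pullZ Z g).comap (XAincl y A) = i.ker := by
  rw [pullZ, ← Scheme.IdealSheafData.comap_comp,
    show XAincl y A ≫ PicF.XTmap y g = secId y ≫ PicF.XTmap y h from pullback.hom_ext
      (by simp [PicF.XTmap, secId, XAincl]) (by simp [PicF.XTmap, secId, XAincl, ← hg]),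
    Scheme.IdealSheafData.comap_comp, ← FlatMor12.HilbBC.hilbPull_eq_comap, hh, ← Scheme.IdealSheafData.comap_comp,
    secId, pullback.lift_fst, Scheme.IdealSheafData.comap_id]

include hh in
/-- The first order deformation of a centred point. -/
def defOf {A : Art k k} (g : overA A ⟶ H) (hg : specRes A ≫ g.left = h.left) : (localHilb Y y i.ker).obj A :=
  ⟨pullZ Z g, flatOver_pullZ g, comap_incl_pullZ hh g hg⟩

theorem isLocallyNoetherian_overA (A : Art k k) : IsLocallyNoetherian (overA A).left := by
  haveI : IsNoetherianRing (CommRingCat.of A) := inferInstanceAs (IsNoetherianRing A)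
  show IsLocallyNoetherian (Spec (CommRingCat.of A))
  infer_instance

theorem isProper_of_flatOver [IsProper y] {A : Art k k} (I : (XA y A).IdealSheafData) :
    IsProper (I.subschemeι ≫ XApr y A) := by
  haveI : IsProper (XApr y A) := MorphismProperty.pullback_snd (P := @IsProper) _ _ inferInstance
  infer_instance

theorem eq_of_pullZ_eq (hH : FGA.HilbRepresentedBy y H Z) {A : Art k k} (g g' : overA A ⟶ H)
    (he : pullZ Z g = pullZ Z g') : g = g' := by
  haveI := isLocallyNoetherian_overA A
  obtain ⟨g₀, -, huniq⟩ := hH.2 (overA A) ⟨pullZ Z g, isProper_pullZ g, flatOver_pullZ g⟩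
  exact (huniq g (FlatMor12.HilbBC.hilbPull_eq_comap y g Z.1)).trans
    (huniq g' ((FlatMor12.HilbBC.hilbPull_eq_comap y g' Z.1).trans he.symm)).symm

include hh in
theorem exists_point [IsProper y] (hH : FGA.HilbRepresentedBy y H Z) {A : Art k k}
    (J : (localHilb Y y i.ker).obj A) :
    ∃ (g : overA A ⟶ H) (hg : specRes A ≫ g.left = h.left), defOf hh g hg = J := by
  haveI := isLocallyNoetherian_overA A
  obtain ⟨g, hg, -⟩ := hH.2 (overA A) ⟨J.1, isProper_of_flatOver J.1, J.2.1⟩
  rw [FlatMor12.HilbBC.hilbPull_eq_comap] at hg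
  refine ⟨g, ?_, Subtype.ext hg⟩
  have hw : (specRes A ≫ g.left) ≫ H.hom = 𝟙 (specPt k) := by
    rw [Category.assoc, Over.w g]
    exact ((specRes_comp (ofBase A)).trans (Category.id_comp _).symm).trans (comp_specRes_base _)
  let h' : Over.mk (𝟙 (specPt k)) ⟶ H := Over.homMk (specRes A ≫ g.left) hw
  haveI : IsLocallyNoetherian (Over.mk (𝟙 (specPt k))).left := by
    show IsLocallyNoetherian (Spec (CommRingCat.of k)); infer_instance
  have hpull : FGA.hilbPull y h' Z.1 = FGA.hilbPull y h Z.1 := by
    rw [hh, FlatMor12.HilbBC.hilbPull_eq_comap]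
    have e : PicF.XTmap y h' =
        (pullback.fst y (Over.mk (𝟙 (specPt k))).hom ≫ XAincl y A) ≫ PicF.XTmap y g := by
      refine pullback.hom_ext ?_ ?_
      · simp [PicF.XTmap, XAincl]
      · simp [PicF.XTmap, XAincl, h', pullback.condition_assoc]
    rw [e, Scheme.IdealSheafData.comap_comp, Scheme.IdealSheafData.comap_comp]
    show (((pullZ Z g).comap (XAincl y A))).comap _ = _
    rw [show pullZ Z g = J.1 from hg, J.2.2]
  obtain ⟨g₀, -, huniq⟩ := hH.2 (Over.mk (𝟙 (specPt k))) ⟨FGA.hilbPull y h Z.1, by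
      rw [FlatMor12.HilbBC.hilbPull_eq_comap]; exact prop_comap @IsProper (isPullback_XTmap y h) Z.2.1, by
      rw [FlatMor12.HilbBC.hilbPull_eq_comap]; exact prop_comap @Flat (isPullback_XTmap y h) Z.2.2⟩
  exact congrArg (fun f => f.left) ((huniq h' hpull).trans (huniq h rfl).symm)

section Tangent

variable (hs : h.left ≫ H.hom = 𝟙 (specPt k))

theorem over_eq {v : Spec (CommRingCat.of (DualNumber k)) ⟶ H.left} (hv : Centred H.hom h.left v) :
    v ≫ H.hom = specOver (Ad k) := by
  refine hv.over.trans ?_
  rw [← Spec.map_comp, ← CommRingCat.ofHom_comp]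
  rfl

theorem centre_eq {v : Spec (CommRingCat.of (DualNumber k)) ⟶ H.left} (hv : Centred H.hom h.left v) :
    specRes (Ad k) ≫ v = h.left := by
  refine hv.centre.trans ?_
  rw [show Spec.map (CommRingCat.ofHom (algebraMap k k)) = 𝟙 _ by rw [show CommRingCat.ofHom (algebraMap k k) = 𝟙 _ from rfl, Spec.map_id],
    Category.id_comp]

include hh in
/-- The deformation of a centred tangent vector. -/
def defV {v : Spec (CommRingCat.of (DualNumber k)) ⟶ H.left} (hv : Centred H.hom h.left v) : T y i.ker :=
  defOf hh (A := Ad k) (Over.homMk v (over_eq hv)) (centre_eq hv)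

end Tangent

end Groth.Agent.HilbT29
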