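import Groth.Agent.HilbT29.Classify

/-!
# The first order deformation of a homomorphism from the ideal
-/

set_option autoImplicit false
set_option backward.isDefEq.respectTransparency.types false
set_option backward.isDefEq.respectTransparency false
set_option linter.style.haveILetI false
universe u

open CategoryTheory CategoryTheory.Limits AlgebraicGeometry TopologicalSpace Opposite ArtFun ArtFun.Art
open Groth.Agent.ArtGlobal29

noncomputable section

namespace Groth.Agent.HilbT29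

variable {k : Type u} [Field k] {X : Scheme.{u}} (x : X ⟶ specPt k) {I₀ : X.IdealSheafData} (φ : NH I₀)

/-- The ideal of the deformation on a chart. -/
def K (U : X.affineOpens) : Ideal Γ(XA x (Ad k), (pU x (Ad k) U).1) where
  carrier := {t | ∃ (f b : Γ(X, U.1)) (hf : f ∈ I₀.ideal U), asm x U f b = t ∧ φ.φ U ⟨f, hf⟩ = Ideal.Quotient.mk _ b}
  zero_mem' := ⟨0, 0, zero_mem _, by simp [asm], by
    rw [show (⟨0, zero_mem _⟩ : I₀.ideal U) = 0 from rfl, map_zero, map_zero]⟩
  add_mem' := by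
    rintro _ _ ⟨f, b, hf, rfl, h⟩ ⟨f', b', hf', rfl, h'⟩
    refine ⟨f + f', b + b', add_mem hf hf', (asm_add x U f b f' b').symm, ?_⟩
    rw [show (⟨f + f', add_mem hf hf'⟩ : I₀.ideal U) = ⟨f, hf⟩ + ⟨f', hf'⟩ from rfl, map_add, h, h', map_add]
  smul_mem' := by
    rintro r _ ⟨f, b, hf, rfl, h⟩
    obtain ⟨a, c, rfl⟩ := exists_asm x U r
    refine ⟨a * f, a * b + c * f, Ideal.mul_mem_left _ a hf, (asm_mul x U a c f b).symm, ?_⟩
    rw [show (⟨a * f, Ideal.mul_mem_left _ a hf⟩ : I₀.ideal U) = a • ⟨f, hf⟩ from rfl, map_smul, h, map_add,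
      Ideal.Quotient.eq_zero_iff_mem.2 (Ideal.mul_mem_left _ c hf), add_zero]
    rfl

theorem mem_K {U : X.affineOpens} {f b : Γ(X, U.1)} :
    asm x U f b ∈ K x φ U ↔ ∃ hf : f ∈ I₀.ideal U, φ.φ U ⟨f, hf⟩ = Ideal.Quotient.mk _ b := by
  refine ⟨fun ⟨f', b', hf, he, h⟩ => ?_, fun ⟨hf, h⟩ => ⟨f, b, hf, rfl, h⟩⟩
  obtain ⟨rfl, rfl⟩ := asm_inj x U he
  exact ⟨hf, h⟩

theorem eps_mem_K {U : X.affineOpens} {d : Γ(X, U.1)} (hd : d ∈ I₀.ideal U) : asm x U 0 d ∈ K x φ U :=
  (mem_K x φ).2 ⟨zero_mem _, by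
    rw [show (⟨0, zero_mem _⟩ : I₀.ideal U) = 0 from rfl, map_zero, Ideal.Quotient.eq_zero_iff_mem.2 hd]⟩

/-- Restriction between charts. -/
def resU {U V : X.affineOpens} (h : U.1 ≤ V.1) :
    Γ(XA x (Ad k), (pU x (Ad k) V).1) →+* Γ(XA x (Ad k), (pU x (Ad k) U).1) :=
  ((XA x (Ad k)).presheaf.map (homOfLE (pU_mono x (Ad k) h)).op).hom

theorem resU_asm {U V : X.affineOpens} (h : U.1 ≤ V.1) (a b : Γ(X, V.1)) :
    resU x h (asm x V a b) = asm x U (X.presheaf.map (homOfLE h).op a) (X.presheaf.map (homOfLE h).op b) :=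
  res_asm x h a b

theorem map_K_le {U V : X.affineOpens} (h : U.1 ≤ V.1) : (K x φ V).map (resU x h) ≤ K x φ U := by
  rw [Ideal.map_le_iff_le_comap]
  rintro _ ⟨f, b, hf, rfl, hφ⟩
  rw [Ideal.mem_comap, resU_asm]
  refine (mem_K x φ).2 ⟨res_mem I₀ h hf, ?_⟩
  rw [φ.nat U V h f hf, hφ]
  rfl

theorem map_K (V : X.affineOpens) (a : Γ(X, V.1)) :
    (K x φ V).map (resU x (U := X.affineBasicOpen a) (X.basicOpen_le a)) = K x φ (X.affineBasicOpen a) := by
  let D := X.affineBasicOpen a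
  let h : D.1 ≤ V.1 := X.basicOpen_le a
  refine le_antisymm (map_K_le x φ h) ?_
  let M := (K x φ V).map (resU x h)
  haveI := V.2.isLocalization_basicOpen a
  let r := (X.presheaf.map (homOfLE h).op).hom
  have hI : I₀.ideal D = (I₀.ideal V).map r := (I₀.map_ideal_basicOpen V a).symm
  have heps : ∀ d ∈ I₀.ideal D, asm x D 0 d ∈ M := by
    intro d hd
    have hle : I₀.ideal D ≤ (M.colon {eU x D}).comap (jm x (Ad k) D) := by
      rw [hI, Ideal.map_le_iff_le_comap]
      intro g hg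
      rw [Ideal.mem_comap, Ideal.mem_comap, Submodule.mem_colon_singleton]
      have : jm x (Ad k) D (r g) * eU x D = resU x h (asm x V 0 g) := by
        rw [resU_asm]
        simp [asm, mul_comm]
        rfl
      rw [smul_eq_mul, this]
      exact Ideal.mem_map_of_mem _ (eps_mem_K x φ hg)
    have := hle hd
    rw [Ideal.mem_comap, Submodule.mem_colon_singleton, smul_eq_mul] at this
    simpa [asm, mul_comm] using this
  rintro _ ⟨f', b', hf', rfl, hφ⟩
  have hf'' := hf'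
  rw [hI] at hf''
  obtain ⟨⟨⟨f, hf⟩, ⟨_, n, rfl⟩⟩, he⟩ := (IsLocalization.mem_map_algebraMap_iff (Submonoid.powers a) Γ(X, X.basicOpen a)).1 hf''
  simp only at he
  change f' * r (a ^ n) = r f at he
  obtain ⟨b, hb⟩ := Ideal.Quotient.mk_surjective (φ.φ V ⟨f, hf⟩)
  have hu : IsUnit (r (a ^ n)) :=
    IsLocalization.map_units (Γ(X, X.basicOpen a)) (⟨a ^ n, n, rfl⟩ : Submonoid.powers a)
  have hd : r (a ^ n) * b' - r b ∈ I₀.ideal D := by
    rw [← Ideal.Quotient.eq, map_mul, ← hφ]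
    refine Eq.trans ?_ ((φ.nat D V h f hf).trans ((congrArg (resQ I₀ h) hb.symm).trans (resQ_mk I₀ h b)))
    rw [show (⟨_, res_mem I₀ h hf⟩ : I₀.ideal D) = r (a ^ n) • ⟨f', hf'⟩ from
      Subtype.ext (he.symm.trans (mul_comm _ _)), map_smul]
    rfl
  obtain ⟨v, hv⟩ := hu.exists_left_inv
  have e : asm x D f' b' = asm x D v 0 * (resU x h (asm x V f b) + asm x D 0 (r (a ^ n) * b' - r b)) := by
    rw [resU_asm]
    show _ = _ * (asm x D (r f) (r b) + _)
    rw [asm_add, asm_mul]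
    congr 1
    · rw [add_zero, ← he, mul_comm f', ← mul_assoc, hv, one_mul]
    · rw [add_sub_cancel, ← mul_assoc, hv]; ring
  rw [e]
  exact Ideal.mul_mem_left _ _ (add_mem (Ideal.mem_map_of_mem _ ((mem_K x φ).2 ⟨hf, hb.symm⟩)) (heps _ hd))

theorem isPullback_incl (A : Art k k) : IsPullback (XAincl x A) x (XApr x A) (specRes A) := by
  refine IsPullback.of_right (h₁₂ := pr x A) ?_ (XAincl_snd x A) (IsPullback.of_hasPullback x (specOver A))
  rw [show XAincl x A ≫ pr x A = 𝟙 X from XAincl_fst x A,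
    show specRes A ≫ specOver A = 𝟙 (specPt k) from
      ((specRes_comp (ofBase A)).trans (Category.id_comp _).symm).trans (comp_specRes_base _)]
  exact IsPullback.of_horiz_isIso ⟨by simp⟩

/-- The chart of an affine open of the thickening. -/
def base (W : (XA x (Ad k)).affineOpens) : X.affineOpens :=
  haveI := isClosedImmersion_incl x (Ad k)
  ⟨XAincl x (Ad k) ⁻¹ᵁ W.1, W.2.preimage _⟩

theorem pU_base (W : (XA x (Ad k)).affineOpens) : (pU x (Ad k) (base x W)).1 = W.1 := by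
  have hs : Surjective (XAincl x (Ad k)) := InfAut29.surjective_i (isPullback_incl x (Ad k))
  ext z
  obtain ⟨y, rfl⟩ := hs.1 z
  show pr x (Ad k) (XAincl x (Ad k) y) ∈ XAincl x (Ad k) ⁻¹ᵁ W.1 ↔ _
  rw [← Scheme.Hom.comp_apply, show XAincl x (Ad k) ≫ pr x (Ad k) = 𝟙 X from XAincl_fst x (Ad k)]
  rfl

theorem base_pU (U : X.affineOpens) : base x (pU x (Ad k) U) = U := Subtype.ext (incl_preimage x (Ad k) U)

/-- The ideal on any affine open. -/
def Kall (W : (XA x (Ad k)).affineOpens) : Ideal Γ(XA x (Ad k), W.1) :=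
  (K x φ (base x W)).map ((XA x (Ad k)).presheaf.map (homOfLE (pU_base x W).ge).op).hom

theorem Kall_pU (U : X.affineOpens) : Kall x φ (pU x (Ad k) U) = K x φ U := by
  have key : ∀ (U' : X.affineOpens) (_ : U' = U) (h : (pU x (Ad k) U).1 ≤ (pU x (Ad k) U').1),
      (K x φ U').map ((XA x (Ad k)).presheaf.map (homOfLE h).op).hom = K x φ U := by
    rintro U' rfl h
    rw [show homOfLE h = 𝟙 _ from rfl, op_id, CategoryTheory.Functor.map_id]
    exact Ideal.map_id _
  exact key _ (base_pU x U) _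

/-- The ideal sheaf of the deformation. -/
def idealOf : (XA x (Ad k)).IdealSheafData where
  ideal := Kall x φ
  map_ideal_basicOpen W g := by
    let U := base x W
    let g' : Γ(XA x (Ad k), (pU x (Ad k) U).1) :=
      (XA x (Ad k)).presheaf.map (homOfLE (pU_base x W).le).op g
    have hg : (XA x (Ad k)).presheaf.map (homOfLE (pU_base x W).ge).op g' = g := by
      rw [res_res]
      exact congr($((XA x (Ad k)).presheaf.map_id (op W.1)) g)
    let a : Γ(X, U.1) := incl x (Ad k) U g'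
    have hb : base x ((XA x (Ad k)).affineBasicOpen g) = X.affineBasicOpen a := Subtype.ext (by
      show XAincl x (Ad k) ⁻¹ᵁ (XA x (Ad k)).basicOpen g = X.basicOpen a
      rw [Scheme.preimage_basicOpen]
      congr 1
      show (XAincl x (Ad k)).app W.1 g =
        ((XA x (Ad k)).presheaf.map (homOfLE (pU_base x W).le).op ≫ (XAincl x (Ad k)).appLE _ U.1 _) g
      rw [Scheme.Hom.map_appLE, Scheme.Hom.app_eq_appLE]
      rfl)
    have key : ∀ (V : X.affineOpens) (_ : V = X.affineBasicOpen a) (hV : ((XA x (Ad k)).affineBasicOpen g).1 ≤ (pU x (Ad k) V).1),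
        (Kall x φ W).map ((XA x (Ad k)).presheaf.map (homOfLE ((XA x (Ad k)).basicOpen_le g)).op).hom =
          (K x φ V).map ((XA x (Ad k)).presheaf.map (homOfLE hV).op).hom := by
      rintro V rfl hV
      rw [← map_K x φ U a, Ideal.map_map, Kall, Ideal.map_map, resU]
      congr 1
      rw [← CommRingCat.hom_comp, ← CommRingCat.hom_comp, ← Functor.map_comp, ← Functor.map_comp]
      rfl
    exact key _ hb _

theorem ideal_idealOf (U : X.affineOpens) : (idealOf x φ).ideal (pU x (Ad k) U) = K x φ U := Kall_pU x φ U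

theorem comap_idealOf : (idealOf x φ).comap (XAincl x (Ad k)) = I₀ := by
  refine Scheme.IdealSheafData.ext (funext fun U => ?_)
  rw [ideal_comap_incl, ideal_idealOf]
  refine le_antisymm (Ideal.map_le_iff_le_comap.2 ?_) fun f hf => ?_
  · rintro _ ⟨f, b, hf, rfl, -⟩
    rwa [Ideal.mem_comap, incl_asm]
  · obtain ⟨b, hb⟩ := Ideal.Quotient.mk_surjective (φ.φ U ⟨f, hf⟩)
    have := Ideal.mem_map_of_mem (incl x (Ad k) U) ((mem_K x φ).2 ⟨hf, hb.symm⟩)
    rwa [incl_asm] at this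

theorem flatOver_idealOf : FlatOver X x (Ad k) (idealOf x φ) := by
  let I := idealOf x φ
  show Flat (I.subschemeι ≫ XApr x (Ad k))
  refine HasRingHomProperty.of_iSup_eq_top (P := @Flat)
    (fun U : X.affineOpens => ⟨I.subschemeι ⁻¹ᵁ (pU x (Ad k) U).1, (pU x (Ad k) U).2.preimage I.subschemeι⟩) ?_ fun U => ?_
  · rw [← Scheme.Hom.preimage_iSup, iSup_pU]
    rfl
  let W := pU x (Ad k) U
  let q := (I.subschemeι.app W.1).hom
  let s := strMap (I.subschemeι ≫ XApr x (Ad k)) (I.subschemeι ⁻¹ᵁ W.1)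
  have hflat : s.Flat := by
    letI : Algebra (Ad k) Γ(I.subscheme, I.subschemeι ⁻¹ᵁ W.1) := s.toAlgebra
    refine flat_of_eps (epsd k) epsd_sq ideal_dual fun z hz => ?_
    obtain ⟨t, rfl⟩ := I.subschemeι_app_surjective W z
    obtain ⟨a, b, rfl⟩ := exists_asm x U t
    have hs : ∀ c, q (am x (Ad k) U c) = s c := fun c => by
      show ((Scheme.ΓSpecIso (CommRingCat.of (Ad k))).inv ≫ (XApr x (Ad k)).appLE ⊤ W.1 _ ≫ I.subschemeι.app W.1) c =
        ((Scheme.ΓSpecIso (CommRingCat.of (Ad k))).inv ≫ (I.subschemeι ≫ XApr x (Ad k)).appLE ⊤ _ _) c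
      rw [Scheme.Hom.app_eq_appLE, Scheme.Hom.appLE_comp_appLE]
    have h1 : asm x U 0 a ∈ I.ideal W := by
      rw [← I.ker_subschemeι_app W, RingHom.mem_ker]
      refine Eq.trans ?_ hz
      show q _ = s (epsd k) * q (asm x U a b)
      rw [← hs, ← map_mul]
      congr 1
      simp [asm, eU]
      have h2 : am x (Ad k) U (epsd k) * am x (Ad k) U (epsd k) = 0 := eU_sq x U
      linear_combination -(jm x (Ad k) U b) * h2
    rw [show I.ideal W = K x φ U from ideal_idealOf x φ U, mem_K] at h1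
    obtain ⟨h0, h1⟩ := h1
    have ha : a ∈ I₀.ideal U := by
      rw [show (⟨0, h0⟩ : I₀.ideal U) = 0 from rfl, map_zero] at h1
      exact Ideal.Quotient.eq_zero_iff_mem.1 h1.symm
    obtain ⟨c, hc⟩ := Ideal.Quotient.mk_surjective (φ.φ U ⟨a, ha⟩)
    refine ⟨q (jm x (Ad k) U (b - c)), ?_⟩
    show q (asm x U a b) = s (epsd k) * q (jm x (Ad k) U (b - c))
    rw [← hs, ← map_mul, ← sub_eq_zero, ← map_sub]
    refine RingHom.mem_ker.1 ((I.ker_subschemeι_app W).ge ?_)
    rw [show I.ideal W = K x φ U from ideal_idealOf x φ U]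
    have : asm x U a b - am x (Ad k) U (epsd k) * jm x (Ad k) U (b - c) = asm x U a c := by
      simp only [asm, eU, map_sub]; ring
    rw [this]
    exact (mem_K x φ).2 ⟨ha, hc.symm⟩
  have h2 : ((I.subschemeι ≫ XApr x (Ad k)).appLE ⊤ (I.subschemeι ⁻¹ᵁ W.1) (top_le_preimage _ _)).hom =
      s.comp (Scheme.ΓSpecIso (CommRingCat.of (Ad k))).hom.hom := by
    ext c
    show _ = ((Scheme.ΓSpecIso _).hom ≫ (Scheme.ΓSpecIso _).inv ≫ (I.subschemeι ≫ XApr x (Ad k)).appLE ⊤ _ _) c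
    rw [Iso.hom_inv_id_assoc]
  rw [h2]
  exact (RingHom.Flat.of_bijective (ConcreteCategory.bijective_of_isIso _)).comp hflat

/-- The deformation of a family of homomorphisms. -/
def ofNH : T x I₀ := ⟨idealOf x φ, flatOver_idealOf x φ, comap_idealOf x φ⟩

theorem toNH_ofNH : toNH (ofNH x φ) = φ := by
  refine NH.ext I₀ fun U f => ?_
  obtain ⟨b, hb⟩ := Ideal.Quotient.mk_surjective (φ.φ U f)
  have h : asm x U f.1 b ∈ (ofNH x φ).1.ideal (pU x (Ad k) U) := by
    show _ ∈ (idealOf x φ).ideal _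
    rw [ideal_idealOf]
    exact (mem_K x φ).2 ⟨f.2, hb.symm⟩
  exact (cls_eq (ofNH x φ) h).trans hb

/-- First order deformations are families of homomorphisms. -/
def equivNH : T x I₀ ≃ NH I₀ :=
  Equiv.ofBijective toNH ⟨toNH_injective, fun φ => ⟨ofNH x φ, toNH_ofNH x φ⟩⟩

end Groth.Agent.HilbT29
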